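import Cfsg.Agent.Std2B.Defs

/-! Automorphisms of an extraspecial group fixing `C_Q(e, f)` pointwise; the relation `Act`. -/

set_option autoImplicit false

namespace Cfsg.Agent.Std2B

open Cfsg Cfsg.Spor Cfsg.Agent.TT Cfsg.Agent.LES Cfsg.Agent.Spor.Leech Subgroup

variable {M : Type*} [Group M] {z : M}

section
variable {φ : leechLattice → M} {n n' : M} {g g' : Co0}

theorem act_one : Act z φ 1 1 := ⟨by simp, fun v => .inl (by simp)⟩

theorem Act.mul (hz : z * z = 1) (h : Act z φ n g) (h' : Act z φ n' g') : Act z φ (n * n') (g * g') :=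
  ⟨comm_mul_left h.1 h'.1, fun v => by
    rw [mul_smul]
    refine (h.2 _).trans hz (((h'.2 v).conj h.1).trans hz (.inl (by group)))⟩

theorem Act.inv (hz : z * z = 1) (h : Act z φ n g) : Act z φ n⁻¹ g⁻¹ :=
  ⟨comm_inv_left h.1, fun v => by
    have := (h.2 (g⁻¹ • v)).conj (comm_inv_left h.1)
    rw [smul_inv_smul] at this
    exact (Eqv.trans hz this (.inl (by group))).symm hz⟩

end

variable [Finite M] {Q : Subgroup M} (h : XS Q z) {d e f x : M}
include h

theorem three (he : e ∈ Q) (hf : f ∈ Q) (ee : e * e = 1) (hd : d ∈ Q)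
    (hc : ∀ q ∈ Q, q * e = e * q → q * f = f * q → q * d = d * q) :
    Eqv z d 1 ∨ Eqv z d e ∨ Eqv z d f ∨ Eqv z d (e * f) := by
  have h0 : closure {z, e} ≤ Q := (closure_le _).2 (by rintro _ (rfl | rfl); exacts [h.z_mem, he])
  have h1 : z ∈ closure {z, e} := subset_closure (.inl rfl)
  have h2 := h.mem_of_comm_centralizer (sup_le h0 (zpowers_le.2 hf)) (mem_sup_left h1) hd fun q hq k =>
    hc q hq (k e (mem_sup_left (subset_closure (.inr rfl)))).symm (k f (mem_sup_right (mem_zpowers f))).symm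
  have h3 : ∀ {y}, y ∈ closure {z, e} → Eqv z y 1 ∨ Eqv z y e := fun hy => by
    rcases (mem_closure_four h.z_sq ee (h.z_comm e he)).1 hy with a | a | a | a
    exacts [.inl (.inl a), .inl (.inr (by simpa using a)), .inr (.inl a), .inr (.inr (a.trans (h.z_comm e he).symm))]
  have h4 : ∀ {y}, y ∈ Q → Eqv z (d * f) y → Eqv z d (y * f) := fun hy a => by
    have := a.mul_right (h.z_comm _ (inv_mem hf))
    rw [mul_inv_cancel_right] at this
    exact this.trans h.z_sq (Eqv.mul_left _ (h.inv hf))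
  rcases (h.mem_sup_zpowers h0 h1 hf).1 h2 with a | a <;> rcases h3 a with b | b
  exacts [.inl b, .inr (.inl b), .inr (.inr (.inl (by simpa using h4 (one_mem _) b))), .inr (.inr (.inr (h4 he b)))]

variable {β : M → M} (b : PH Q β) (bQ : ∀ x ∈ Q, β x ∈ Q) (bz : β z = z)
include b bQ

omit [Finite M] in
theorem comm_delta {p : M} (hx : x ∈ Q) (hp : p ∈ Q) (k : Eqv z (β p) p) :
    p * (x⁻¹ * β x) = x⁻¹ * β x * p := by
  have h1 : cmv (β x) p = cmv x p := by
    rw [cmv_comm, cmv_eqv h (bQ x hx) (k.symm h.z_sq), cmv_comm]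
    exact cmv_congr (b.comm_iff hx hp)
  rw [eq_comm, ← cmv_eq_zero, cmv_mul_left h (inv_mem hx) (bQ x hx) hp, h1, cmv_eqv h hp (h.inv hx)]
  exact CharTwo.add_self_eq_zero _

include bz

omit [Finite M] in
theorem comm_self (hx : x ∈ Q) (k : x⁻¹ * β x * (x⁻¹ * β x) = 1) : x * (x⁻¹ * β x) = x⁻¹ * β x * x := by
  have h1 := sqv_mul h hx (mul_mem (inv_mem hx) (bQ x hx))
  rw [mul_inv_cancel_left, sqv_eq_zero.2 k, add_zero, sqv_congr (b.sq_iff hx)] at h1
  exact cmv_eq_zero.1 (by simpa using h1)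

theorem delta (he : e ∈ Q) (hf : f ∈ Q) (ee : e * e = 1) (ff : f * f = 1) (ef : e * f = f * e)
    (hb : ∀ q ∈ Q, q * e = e * q → q * f = f * q → β q = q) (hx : x ∈ Q) (h1 : x * e = e * x)
    (h2 : x * f ≠ f * x) : x⁻¹ * β x ∈ closure {z, e} := by
  have hd := mul_mem (inv_mem hx) (bQ x hx)
  have k1 := fun q hq q1 q2 => comm_delta h b bQ hx hq (.inl (hb q hq q1 q2))
  have k2 := comm_self h b bQ bz hx (by
    rcases three h he hf ee hd k1 with a | a | a | a <;> rw [eqv_sq h (by simp [*, mul_mem]) a]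
    exacts [mul_one _, ee, ff, by rw [mul_assoc, ← mul_assoc f, ← ef, mul_assoc, ff, mul_one, ee]])
  rw [mem_closure_four h.z_sq ee (h.z_comm e he), ← h.z_comm e he]
  refine h.eq_of_comm_centralizer he hd fun q hq q1 => ?_
  by_cases q2 : q * f = f * q
  · exact k1 q hq q1 q2
  have := comm_mul_left (k1 _ (mul_mem hq hx) (comm_mul_left q1 h1) (h.mul_comm_of_not_comm hf hq hx q2 h2))
    (comm_inv_left k2)
  rwa [mul_inv_cancel_right] at this

theorem triv (he : e ∈ Q) (hf : f ∈ Q) (ff : f * f = 1)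
    (hb : ∀ q ∈ Q, q * e = e * q → q * f = f * q → β q = q) {y : M} (hy : y ∈ Q) (h1 : y * e ≠ e * y)
    (h2 : y * f = f * y) (h3 : Eqv z (β y) y) (hx : x ∈ Q) : Eqv z (β x) x := by
  have k1 : ∀ p ∈ Q, p * f = f * p → Eqv z (β p) p := fun p hp p1 => by
    by_cases p2 : p * e = e * p
    · exact .inl (hb p hp p2 p1)
    have := hb _ (mul_mem hp hy) (h.mul_comm_of_not_comm he hp hy p2 h1) (comm_mul_left p1 h2)
    rw [b.mul _ hp _ hy] at this
    have k := (h3.mul_left (β p)).symm h.z_sq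
    rw [this] at k
    simpa using k.mul_right (h.z_comm _ (inv_mem hy))
  by_cases x1 : x * f = f * x
  · exact k1 x hx x1
  have hd := mul_mem (inv_mem hx) (bQ x hx)
  have k2 := h.eq_of_comm_centralizer hf hd fun q hq q1 => comm_delta h b bQ hx hq (k1 q hq q1)
  have k3 := comm_self h b bQ bz hx (by
    rcases k2 with a | a | a | a <;> rw [a]
    exacts [mul_one _, h.z_sq, ff, (eqv_sq h hf (.inr rfl)).trans ff])
  rcases k2 with a | a | a | a
  · exact .inl (inv_mul_eq_one.1 a).symm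
  · exact .inr (inv_mul_eq_iff_eq_mul.1 a)
  · exact absurd (a ▸ k3) x1
  · exact absurd ((eqv_comm_iff h hx (.inr a)).1 k3.symm).symm x1

end Cfsg.Agent.Std2B
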