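import Mathlib
import Cfsg.Agent.Mult.YBaby
import Cfsg.Agent.Mult.SporGen
import Cfsg.Agent.S1704
import Cfsg.Agent.S2058
import Cfsg.Agent.Mon.IsoB
import Cfsg.Agent.Mon.NsCongr

/-! Uniqueness of the covering group `2.B`. -/

set_option autoImplicit false

namespace Cfsg.Agent.Std2B

open Cfsg Subgroup

/-- A Schur cover of a perfect group is unique. -/
theorem equiv_of_max_stem {K H H' : Type*} [Group K] [Group H] [Group H'] [Finite H] [Finite H']
    {σ : H →* K} {τ : H' →* K} (hσ : IsStemExtension σ) (hτ : IsStemExtension τ)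
    (hH : commutator H = ⊤) (hH' : commutator H' = ⊤)
    (h1 : Mult.mcard K ≤ Nat.card σ.ker) (h2 : Mult.mcard K ≤ Nat.card τ.ker) :
    ∃ e : H ≃* H', ∀ x, τ (e x) = σ x := by
  have : Finite K := Finite.of_surjective σ hσ.1
  let P : Subgroup (H × H') := (σ.comp (MonoidHom.fst H H')).eqLocus (τ.comp (MonoidHom.snd H H'))
  have hP : ∀ x : H × H', x ∈ P ↔ σ x.1 = τ x.2 := fun x => Iff.rfl
  let p1 : P →* H := (MonoidHom.fst H H').comp P.subtype
  let p2 : P →* H' := (MonoidHom.snd H H').comp P.subtype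
  have s1 : Function.Surjective p1 := fun x => by
    obtain ⟨y, hy⟩ := hτ.1 (σ x)
    exact ⟨⟨(x, y), (hP _).2 hy.symm⟩, rfl⟩
  have s2 : Function.Surjective p2 := fun y => by
    obtain ⟨x, hx⟩ := hσ.1 (τ y)
    exact ⟨⟨(x, y), (hP _).2 hx⟩, rfl⟩
  let ρ : P →* K := σ.comp p1
  have hρ : Function.Surjective ρ := hσ.1.comp s1
  have hc : ρ.ker ≤ center P := fun x hx => mem_center_iff.2 fun y => by
    have e1 : σ x.1.1 = 1 := hx
    have e2 : τ x.1.2 = 1 := ((hP _).1 x.2).symm.trans e1
    exact Subtype.ext (Prod.ext (mem_center_iff.1 (hσ.2.1 e1) y.1.1) (mem_center_iff.1 (hτ.2.1 e2) y.1.2))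
  have hd := Nat.le_of_dvd Mult.mcard_pos (Mult.card_ker_inf_commutator_dvd hρ hc)
  let D := commutator P
  have t1 : Function.Surjective (p1.comp D.subtype) := by
    rw [← MonoidHom.range_eq_top, MonoidHom.range_comp, range_subtype, map_commutator_eq,
      MonoidHom.range_eq_top.2 s1]
    exact hH
  have t2 : Function.Surjective (p2.comp D.subtype) := by
    rw [← MonoidHom.range_eq_top, MonoidHom.range_comp, range_subtype, map_commutator_eq,
      MonoidHom.range_eq_top.2 s2]
    exact hH'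
  have hD : Nat.card D = Nat.card ↥(ρ.ker ⊓ D) * Nat.card K := by
    rw [Mult.Cov.card_eq_card_ker_mul (σ := ρ.comp D.subtype) (hσ.1.comp t1)]
    congr 1
    rw [← MonoidHom.comap_ker, ← subgroupOf, ← inf_subgroupOf_right]
    exact Nat.card_congr (subgroupOfEquivOfLe inf_le_right).toEquiv
  have b1 : Function.Bijective (p1.comp D.subtype) :=
    (Nat.bijective_iff_surjective_and_card _).2 ⟨t1, le_antisymm (by
      rw [hD, Mult.Cov.card_eq_card_ker_mul hσ.1]
      exact Nat.mul_le_mul_right _ (hd.trans h1)) (Nat.card_le_card_of_surjective _ t1)⟩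
  have b2 : Function.Bijective (p2.comp D.subtype) :=
    (Nat.bijective_iff_surjective_and_card _).2 ⟨t2, le_antisymm (by
      rw [hD, Mult.Cov.card_eq_card_ker_mul hτ.1]
      exact Nat.mul_le_mul_right _ (hd.trans h2)) (Nat.card_le_card_of_surjective _ t2)⟩
  refine ⟨(MulEquiv.ofBijective _ b1).symm.trans (MulEquiv.ofBijective _ b2), fun x => ?_⟩
  obtain ⟨y, rfl⟩ := (MulEquiv.ofBijective _ b1).surjective x
  rw [MulEquiv.trans_apply, MulEquiv.symm_apply_apply]
  exact ((hP _).1 y.1.2).symm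

theorem perf_of_stem {K H : Type*} [Group K] [Group H] {σ : H →* K} (hσ : IsStemExtension σ)
    (hK : commutator K = ⊤) : commutator H = ⊤ := by
  rw [eq_top_iff]
  intro x _
  have : σ x ∈ (commutator H).map σ := by
    rw [map_commutator_eq, MonoidHom.range_eq_top.2 hσ.1]
    exact hK.ge (mem_top _)
  obtain ⟨y, hy, e⟩ := this
  have : y⁻¹ * x ∈ σ.ker := by simp [MonoidHom.mem_ker, e]
  simpa using mul_mem hy (hσ.2.2 this)

/-- A perfect group with centre of order 2 and central quotient the Baby Monster is the centraliser of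
a 2A involution in the Griess algebra model. -/
theorem equiv_cent {L : Type*} [Group L] [Finite L] (hp : commutator L = ⊤)
    (h2 : Nat.card (center L) = 2) (e : L ⧸ center L ≃* Spor.BabyMonster) :
    Nonempty (L ≃* centralizer ({Mon.psi Spor.leechU} : Set Mon.MG)) := by
  have hc := S1704.result.2
  have : Finite Spor.BabyMonster := Nat.finite_of_card_ne_zero (by rw [hc]; norm_num)
  have hK := Mult.YL.perf_of_simple S1704.result.1 (by rw [hc]; norm_num)
  obtain ⟨f⟩ := Mon.baby_iso
  have h := Mon.nonsplit_congr (MulEquiv.refl _) f.symm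
    (Mon.if1.nonsplit (a := Mon.psi Spor.leechU) (IsConj.refl _))
  obtain ⟨τ, hτ, hk⟩ := Mult.YL.stem_of_nonsplit h hK
  have hm : Mult.mcard Spor.BabyMonster = 2 := (Mult.mcard_eq S2058.result).trans (by simp)
  let σ : L →* Spor.BabyMonster := e.toMonoidHom.comp (QuotientGroup.mk' _)
  have hσk : σ.ker = center L := by
    ext x
    simp [σ, MonoidHom.mem_ker, QuotientGroup.eq_one_iff]
  have hσ : IsStemExtension σ :=
    ⟨e.surjective.comp (QuotientGroup.mk'_surjective _), hσk.le, hp ▸ le_top⟩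
  obtain ⟨i, -⟩ := equiv_of_max_stem hσ hτ hp (perf_of_stem hτ hK) (by rw [hm, hσk, h2])
    (by rw [hm, hk, h.1])
  exact ⟨i⟩

end Cfsg.Agent.Std2B
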