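import Cfsg.Agent.Std2B.RedC
import Cfsg.Agent.Std2B.Ident
import Cfsg.Agent.Std.RedK2
import Cfsg.Agent.Mon.BOut

/-! A standard subgroup `2.B` in a locally balanced simple group is an involution centraliser. -/

set_option autoImplicit false

namespace Cfsg.Agent.Std2B

open Cfsg Cfsg.Spor Subgroup Cfsg.Agent.Mon Cfsg.Agent.PLocal Cfsg.Agent.PLocal.Amb Cfsg.Agent.Std

variable {G : Type*} [Group G] [Finite G] {L : Subgroup G} {t : G}

omit [Finite G] in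
theorem map_center_inv (φ : L ≃* centralizer ({psi leechU} : Set MG)) (ht : orderOf t = 2) (h0 : t ∈ L)
    (h1 : t ∈ 𝐂[L]) : (φ ⟨t, h0⟩ : MG) = psi leechU := by
  refine ((if1.mem_center (IsConj.refl _)).1 (mem_center_iff.2 fun y => ?_)).resolve_left fun c => ?_
  · obtain ⟨y, rfl⟩ := φ.surjective y
    rw [← map_mul, ← map_mul]
    exact congrArg φ (Subtype.ext (commute_of_mem y.2 h1))
  · have : (⟨t, h0⟩ : L) = 1 := φ.injective (Subtype.ext (c.trans (by simp)))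
    simp [show t = 1 from congrArg Subtype.val this] at ht

theorem claim (hL : IsStandardSubgroup L) (ht : orderOf t = 2) (h0 : t ∈ L) (h1 : t ∈ 𝐂[L])
    (hZ : ∀ a ∈ L, a ∈ 𝐂[L] → a = 1 ∨ a = t) (φ : L ≃* centralizer ({psi leechU} : Set MG))
    (hd : ∀ m, Commute m t → ∃ a ∈ L, ∃ k ∈ 𝐂[L], m = a * k) {g : G} (hne : g * t * g⁻¹ ≠ t)
    (hc : Commute t (g * t * g⁻¹)) {x : G} (hx : x ∈ cj(g, 𝐂[L])) (hxt : Commute x t)
    (h2 : x * x = 1 ∨ x * x = g * t * g⁻¹) : x = 1 ∨ x = g * t * g⁻¹ := by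
  have tt : t * t = 1 := by rw [← pow_two, ← ht, pow_orderOf_eq_one]
  have hs : g * t * g⁻¹ ∈ cj(g, 𝐂[L]) := conj_mem_cj g h1
  have ss : g * t * g⁻¹ * (g * t * g⁻¹) = 1 := by rw [conj_mul, tt]; simp
  have s1 : g * t * g⁻¹ ≠ 1 := fun c => by simp [conj_eq_one_iff.1 c] at ht
  have two : ∀ y ∈ 𝐂[L], y ∈ cj(g, 𝐂[L]) → y * y = 1 → y = 1 := fun y a b =>
    eq_one_of_mem_inf hL h0 h1 hZ hne a b
  have cs : ∀ y ∈ cj(g, 𝐂[L]), Commute y (g * t * g⁻¹) := fun y hy => by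
    simpa [mul_assoc] using (commute_of_mem h0 (mem_cj.1 hy)).symm.map (MulAut.conj g)
  have odd : Odd (Nat.card ↥(𝐂[L] ⊓ cj(g, 𝐂[L]))) := hL.2.1.2 g fun c =>
    hne (mul_inv_eq_iff_eq_mul.2 (commute_of_mem_normalizer h0 h1 hZ (hL.2.2.2 ▸ c)))
  have cc := fun {n w} => commute_of_commute hL h0 h1 hZ (g := g) (n := n) (w := w)
  have cm := fun {n w} => conj_mem_of_commute hL ht h1 (g := g) (n := n) (w := w)
  obtain ⟨l, hl, c, hcK, e⟩ := hd _ hc.symm
  generalize g * t * g⁻¹ = s at *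
  generalize cj(g, 𝐂[L]) = K' at *
  have ha : psi leechU ∈ cA psi := IsConj.refl _
  have aa := if1.toIf0.mul_self_A ha
  let ι : L →* MG := (Subgroup.subtype _).comp φ.toMonoidHom
  have hi : Function.Injective ι := Subtype.val_injective.comp φ.injective
  have ιt : ι ⟨t, h0⟩ = psi leechU := map_center_inv φ ht h0 h1
  have hsurj : ∀ k, Commute k (psi leechU) → ∃ m, ι m = k := fun k hk =>
    ⟨φ.symm ⟨k, mem_centralizer_singleton_iff.2 hk⟩, by simp [ι]⟩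
  have cι : ∀ {m n : L}, Commute (ι m) (ι n) ↔ Commute (m : G) n := fun {m n} =>
    ⟨fun h => congrArg Subtype.val (hi (a₁ := m * n) (a₂ := n * m) (by rw [map_mul, map_mul]; exact h)),
      fun h => Commute.map (show Commute m n from Subtype.ext h) ι⟩
  have cZ : ∀ {m : L}, (m : G) ∈ 𝐂[L] → ι m = 1 ∨ ι m = psi leechU := fun {m} h =>
    (hZ m m.2 h).imp (fun e => by rw [show m = 1 from Subtype.ext e, map_one])
      fun e => by rw [show m = ⟨t, h0⟩ from Subtype.ext e, ιt]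
  have Zc : ∀ {m : L}, ι m = 1 ∨ ι m = psi leechU → (m : G) ∈ 𝐂[L] := fun {m} h => by
    rcases h with h | h
    · rw [hi (h.trans (map_one ι).symm)]; exact one_mem _
    · rw [hi (h.trans ιt.symm)]; exact h1
  let X : Subgroup L :=
    { carrier := {m | ∃ k ∈ 𝐂[L], (m : G) * k ∈ K'}
      one_mem' := ⟨1, one_mem _, by simp⟩
      mul_mem' := fun {m n} ⟨k, h1, h2⟩ ⟨k', h3, h4⟩ => ⟨k * k', mul_mem h1 h3, by
        rw [coe_mul, (commute_of_mem n.2 h1).mul_mul_mul_comm]; exact mul_mem h2 h4⟩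
      inv_mem' := fun {m} ⟨k, h1, h2⟩ => ⟨k⁻¹, inv_mem h1, by
        rw [coe_inv, ← mul_inv_rev, ← (commute_of_mem m.2 h1).eq]; exact inv_mem h2⟩ }
  have l1 : l ∉ 𝐂[L] := fun a => s1 (two s (e ▸ mul_mem a hcK) hs ss)
  have ll : l * l ∈ 𝐂[L] := by
    rw [e, sq_dec hl hcK, mul_eq_one_iff_eq_inv] at ss
    exact ss ▸ inv_mem (mul_mem hcK hcK)
  have nm : ∀ k : L, Commute (k : G) l → ∀ m ∈ X, (k : G) * m * (k : G)⁻¹ * (m : G)⁻¹ ∈ K' :=
    fun k hk m ⟨c', h3, h4⟩ => by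
      rw [← comm_dec k.2 h3]
      exact mul_mem (cm h4 (e ▸ (commute_dec k.2 hcK).2 hk)) (inv_mem h4)
  have tK : t ∉ K' := fun a => by simp [two t h1 a tt] at ht
  have cl : ∀ m ∈ X, Commute (m : G) l := fun m hm => by
    obtain ⟨c', h3, h4⟩ := id hm
    have h5 := (cs _ h4).symm
    rw [e, Commute, SemiconjBy, (commute_of_mem m.2 hcK).symm.mul_mul_mul_comm,
      (commute_of_mem hl h3).symm.mul_mul_mul_comm] at h5
    have h6 : (m * l)⁻¹ * (l * m) ∈ 𝐂[L] := by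
      rw [eq_mul_inv_of_mul_eq h5, mul_assoc, inv_mul_cancel_left]
      exact mul_mem (mul_mem h3 hcK) (inv_mem (mul_mem hcK h3))
    rcases hZ _ (mul_mem (inv_mem (mul_mem m.2 hl)) (mul_mem hl m.2)) h6 with e' | e'
    · exact inv_mul_eq_one.1 e'
    · refine absurd (?_ : t ∈ K') tK
      have := nm ⟨l, hl⟩ (Commute.refl l) m hm
      rwa [inv_mul_eq_iff_eq_mul.1 e', (commute_of_mem (mul_mem m.2 hl) h1).eq, mul_assoc, mul_assoc,
        ← mul_inv_rev, mul_inv_cancel, mul_one] at this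
  have cfg : Cfg (psi leechU) (ι ⟨l, hl⟩) (X.map ι) ((K'.subgroupOf L).map ι) :=
    { sq := by rw [← map_mul]; exact cZ ll
      ne := ⟨fun a => l1 (Zc (Or.inl a)), fun a => l1 (Zc (Or.inr a))⟩
      aX := ⟨_, ⟨t, h1, by simp [tt]⟩, ιt⟩
      lX := ⟨_, ⟨c, hcK, e ▸ hs⟩, rfl⟩
      ca := by rintro _ ⟨m, -, rfl⟩; exact ιt ▸ cι.2 (commute_of_mem m.2 h1)
      cl := by rintro _ ⟨m, hm, rfl⟩; exact cι.2 (cl m hm)
      norm := by
        rintro k k1 k2 _ ⟨m, hm, rfl⟩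
        obtain ⟨k, rfl⟩ := hsurj k k1
        exact ⟨k * m * k⁻¹ * m⁻¹, nm k (cι.1 k2) m hm, by simp⟩
      le := map_mono fun m hm => ⟨1, one_mem _, by rw [mul_one]; exact hm⟩
      aY := fun ⟨m, hm, a⟩ => tK (by rwa [hi (a.trans ιt.symm)] at hm)
      inv := by
        rintro _ ⟨m, ⟨c', h3, h4⟩, rfl⟩ mm
        by_cases m1 : ι m = 1
        · exact Or.inl m1
        by_cases m2 : ι m = psi leechU
        · exact Or.inr (Or.inl m2)
        have mm' : (m : G) * m = 1 := congrArg Subtype.val (hi (a₁ := m * m) (a₂ := 1) (by rw [map_mul, mm, map_one]))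
        have h5 : c' * c' ∈ 𝐂[L] ⊓ K' := ⟨mul_mem h3 h3, by
          simpa [sq_dec m.2 h3, mm'] using mul_mem h4 h4⟩
        obtain ⟨n, hn⟩ := odd
        have h6 : (c' * c') ^ (2 * n + 1) = 1 := by
          rw [← hn]; exact congrArg Subtype.val (pow_card_eq_one' (x := (⟨_, h5⟩ : ↥(𝐂[L] ⊓ K'))))
        have h7 : (m * c') ^ (2 * n + 1) = m * c' ^ (2 * n + 1) := by
          rw [(commute_of_mem m.2 h3).mul_pow, pow_succ, pow_mul, pow_two, mm', one_pow, one_mul]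
        have h8 := pow_mem h3 (2 * n + 1)
        have h9 := dc if1.toIf0 ha (l := ι ⟨l, hl⟩) (ιt ▸ cι.2 (commute_of_mem m.2 h1).symm) mm m1 m2
          (ιt ▸ cι.2 (commute_of_mem hl h1)) (by rw [← map_mul]; exact cZ ll) fun k k1 k2 => by
            obtain ⟨k, rfl⟩ := hsurj k k1
            refine cι.2 ((commute_dec k.2 hcK).1 (e ▸ cc (h7 ▸ pow_mem h4 _) ?_ (fun a => ?_)
              ((commute_dec k.2 h8).2 (cι.1 k2))))
            · rw [sq_dec m.2 h8, mm', one_mul, ← (Commute.refl c').mul_pow, h6]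
            · exact (cZ (eq_inv_of_mul_eq_one_left a ▸ inv_mem h8)).elim m1 m2
        rcases (mem_four_iff aa mm (ιt ▸ cι.2 (commute_of_mem m.2 h1).symm)).1 h9 with a | a | a | a
        · exact absurd (Zc (Or.inl a)) l1
        · exact absurd (Zc (Or.inr a)) l1
        · exact Or.inr (Or.inr (Or.inl a.symm))
        · exact Or.inr (Or.inr (Or.inr (by rw [a, ← mul_assoc, aa, one_mul]))) }
  have f4 : ∀ {m : L}, F4 (psi leechU) (ι ⟨l, hl⟩) (ι m) ↔ (m : G) ∈ 𝐂[L] ∨ l⁻¹ * m ∈ 𝐂[L] :=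
    fun {m} => by
      have la : Commute (ι ⟨l, hl⟩) (psi leechU) := ιt ▸ cι.2 (commute_of_mem hl h1)
      rw [F4, ← or_assoc]
      refine or_congr ⟨Zc, cZ⟩ (Iff.trans ?_ ⟨Zc (m := ⟨l, hl⟩⁻¹ * m), cZ (m := ⟨l, hl⟩⁻¹ * m)⟩)
      rw [map_mul, map_inv, inv_mul_eq_one, inv_mul_eq_iff_eq_mul, la.eq, eq_comm (a := ι ⟨l, hl⟩)]
  obtain ⟨m, hm, k, hk, rfl⟩ := hd x hxt
  have h3 := cfg.main if1.toIf0 (x := ι ⟨m, hm⟩) ⟨_, ⟨k, hk, hx⟩, rfl⟩ (by
    rw [← map_mul, f4]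
    rw [sq_dec hm hk] at h2
    refine h2.imp (fun a => ?_) fun a => ?_
    · exact (eq_inv_of_mul_eq_one_left a ▸ inv_mem (mul_mem hk hk) : m * m ∈ _)
    · have : l⁻¹ * (m * m) = c * (k * k)⁻¹ := by
        rw [inv_mul_eq_iff_eq_mul, ← mul_assoc, ← e, ← a]; group
      exact this ▸ mul_mem hcK (inv_mem (mul_mem hk hk)))
  have four : ∀ y ∈ 𝐂[L], y ∈ K' → y * y = 1 ∨ y * y = s → y = 1 := fun y a b c => two y a b
    (c.elim id fun c => two _ (mul_mem a a) (mul_mem b b) (by rw [c, ss]))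
  refine (f4.1 h3).imp (fun a => four _ (mul_mem a hk) hx h2) fun a => ?_
  have h4 : s⁻¹ * (m * k) = c⁻¹ * (l⁻¹ * m) * k := by rw [e]; group
  refine (inv_mul_eq_one.1 (four _ (h4 ▸ mul_mem (mul_mem (inv_mem hcK) a) hk)
    (mul_mem (inv_mem hs) hx) ?_)).symm
  rwa [(cs _ hx).inv_right.mul_mul_mul_comm, ← mul_inv_rev, ss, inv_one, one_mul]

/-- The standard subgroup is the centraliser of its central involution. -/
theorem red [IsSimpleGroup G] (hG : ¬ IsMulCommutative G)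
    (hbal : ∀ t : G, orderOf t = 2 → centralizerPPrimeCore 2 t = ⊥) (hL : IsStandardSubgroup L)
    (h2 : Nat.card (center L) = 2) (e : L ⧸ center L ≃* BabyMonster) :
    ∃ (t : G) (φ : centralizer ({psi leechU} : Set MG) ≃* centralizer ({t} : Set G)),
      orderOf t = 2 ∧ (φ ⟨psi leechU, mem_centralizer_singleton_iff.2 rfl⟩ : G) = t ∧
        ∃ g, g * t * g⁻¹ ≠ t ∧ Commute t (g * t * g⁻¹) := by
  obtain ⟨t, ht, h0, h1, hZ⟩ := exists_center_inv h2
  obtain ⟨φ⟩ := equiv_cent hL.1.1.1 h2 e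
  obtain ⟨f⟩ := baby_iso
  have hi := inner_of_out hL.1.1.1 (Nat.card_eq_one_iff_unique.2 ⟨⟨fun a b => by
    obtain ⟨a, rfl⟩ := QuotientGroup.mk_surjective a
    obtain ⟨b, rfl⟩ := QuotientGroup.mk_surjective b
    exact QuotientGroup.eq.2 ((inner_of_equiv (e.trans f) if1.aut_inner _).imp fun _ => Eq.symm)⟩,
      inferInstance⟩)
  have hd := fun m (c : Commute m t) => exists_mul_of_inner hi (mem_normalizer_of_commute hL ht h1 c)
  obtain ⟨g, hne, hg⟩ := exists_conj' hG hL ht h0 h1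
  obtain ⟨l, hl, c, hc, e'⟩ := hd _ (commute_conj_symm hg).symm
  have tt : t * t = 1 := by rw [← pow_two, ← ht, pow_orderOf_eq_one]
  have hK := cent_eq_of_claim' hL ht h0 h1 hZ (hbal t ht) hl hc (by
      rw [← e', show g⁻¹ * t * g * (g⁻¹ * t * g) = g⁻¹ * (t * t) * g by group, tt]; group)
    fun x hx h3 h4 => by
      simpa using claim hL ht h0 h1 hZ φ hd hne hg (conj_mem_cj g hx)
        (by simpa [mul_assoc] using (e' ▸ h3 : Commute x (g⁻¹ * t * g)).map (MulAut.conj g))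
        (by simpa using h4)
  have hL' : L = centralizer {t} := le_antisymm
    (fun x hx => mem_centralizer_singleton_iff.2 (commute_of_mem hx h1)) fun x hx => by
      obtain ⟨a, ha, k, hk, rfl⟩ := hd x (mem_centralizer_singleton_iff.1 hx)
      exact mul_mem ha (zpowers_le.2 h0 (hK ▸ hk))
  refine ⟨t, φ.symm.trans (MulEquiv.subgroupCongr hL'), ht, ?_, g, hne, hg⟩
  rw [show (⟨psi leechU, _⟩ : centralizer ({psi leechU} : Set MG)) = φ ⟨t, h0⟩ from
    Subtype.ext (map_center_inv φ ht h0 h1).symm]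
  simp

end Cfsg.Agent.Std2B
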