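import Cfsg.Agent.Mon.Loc

/-! Charts: partial isomorphisms from a model group `M` into a group `G`. -/

set_option autoImplicit false

namespace Cfsg.Agent.Std2B

open Cfsg Cfsg.Spor Cfsg.Agent.TT Subgroup

variable {M : Type*} [Group M] {G : Type*} [Group G]

/-- `f` is an injective homomorphism on `S`. -/
structure PH (S : Subgroup M) (f : M → G) : Prop where
  mul : ∀ x ∈ S, ∀ y ∈ S, f (x * y) = f x * f y
  inj : ∀ x ∈ S, f x = 1 → x = 1

namespace PH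

variable {S T : Subgroup M} {f : M → G} (h : PH S f) {x y w : M}
include h

/-- The homomorphism on `S`. -/
def hom : S →* G := MonoidHom.mk' (fun x => f x) fun x y => h.mul x x.2 y y.2

theorem hom_apply (x : S) : h.hom x = f x := rfl

theorem hom_injective : Function.Injective h.hom :=
  (injective_iff_map_eq_one _).2 fun x e => Subtype.ext (h.inj x x.2 e)

theorem mono (hT : T ≤ S) : PH T f :=
  ⟨fun x hx y hy => h.mul x (hT hx) y (hT hy), fun x hx => h.inj x (hT hx)⟩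

theorem one : f 1 = 1 := h.hom.map_one

theorem inv (hx : x ∈ S) : f x⁻¹ = (f x)⁻¹ := h.hom.map_inv ⟨x, hx⟩

theorem pow (hx : x ∈ S) (n : ℕ) : f (x ^ n) = f x ^ n := h.hom.map_pow ⟨x, hx⟩ n

theorem conj (hx : x ∈ S) (hy : y ∈ S) : f (x * y * x⁻¹) = f x * f y * (f x)⁻¹ := by
  rw [h.mul _ (mul_mem hx hy) _ (inv_mem hx), h.mul _ hx _ hy, h.inv hx]

theorem eq_iff (hx : x ∈ S) (hy : y ∈ S) : f x = f y ↔ x = y :=
  ⟨fun e => congrArg Subtype.val (h.hom_injective (a₁ := ⟨x, hx⟩) (a₂ := ⟨y, hy⟩) e), congrArg f⟩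

theorem eq_one_iff (hx : x ∈ S) : f x = 1 ↔ x = 1 := ⟨h.inj x hx, fun e => e ▸ h.one⟩

theorem comm_iff (hx : x ∈ S) (hy : y ∈ S) : f x * f y = f y * f x ↔ x * y = y * x := by
  rw [← h.mul _ hx _ hy, ← h.mul _ hy _ hx, h.eq_iff (mul_mem hx hy) (mul_mem hy hx)]

theorem sq_iff (hx : x ∈ S) : f x * f x = 1 ↔ x * x = 1 := by
  rw [← h.mul _ hx _ hx, h.eq_one_iff (mul_mem hx hx)]

theorem eqv_iff (hw : w ∈ S) (hx : x ∈ S) (hy : y ∈ S) : Eqv (f w) (f x) (f y) ↔ Eqv w x y := by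
  rw [Eqv, Eqv, ← h.mul _ hy _ hw, h.eq_iff hx hy, h.eq_iff hx (mul_mem hy hw)]

theorem isConj (hx : x ∈ S) (hy : y ∈ S) (hw : w ∈ S) (e : w * x * w⁻¹ = y) : IsConj (f x) (f y) :=
  isConj_iff.2 ⟨f w, by rw [← h.conj hw hx, e]⟩

/-- The image of `T ⊓ S`. -/
def img (T : Subgroup M) : Subgroup G := (T.subgroupOf S).map h.hom

theorem mem_img (hT : T ≤ S) {g : G} : g ∈ h.img T ↔ ∃ x ∈ T, f x = g :=
  ⟨fun ⟨x, a, b⟩ => ⟨x, a, b⟩, fun ⟨x, a, b⟩ => ⟨⟨x, hT a⟩, a, b⟩⟩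

theorem mem_img_iff (hx : x ∈ S) : f x ∈ h.img T ↔ x ∈ T :=
  ⟨fun ⟨y, a, b⟩ => (h.eq_iff y.2 hx).1 b ▸ a, fun a => ⟨⟨x, hx⟩, a, rfl⟩⟩

theorem card_img (hT : T ≤ S) : Nat.card (h.img T) = Nat.card T := by
  rw [img, card_map_of_injective h.hom_injective]
  exact Nat.card_congr (subgroupOfEquivOfLe hT).toEquiv

theorem isPGroup_img {p : ℕ} (hT : IsPGroup p T) : IsPGroup p (h.img T) :=
  hT.comap_subtype.map _

theorem xs {z : M} (hT : T ≤ S) (q : XS T z) : XS (h.img T) (f z) := by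
  have m := fun {g} => (h.mem_img hT (g := g)).1
  have z1 := hT q.z_mem
  refine ⟨(h.mem_img_iff z1).2 q.z_mem, fun e => q.z_ne (h.inj z z1 e), (h.sq_iff z1).2 q.z_sq, fun g hg => ?_,
    fun g hg k hk => ?_, fun g hg hc => ?_, ?_⟩
  · obtain ⟨x, a, rfl⟩ := m hg
    exact (h.comm_iff (hT a) z1).2 (q.z_comm x a)
  · obtain ⟨x, a, rfl⟩ := m hg
    obtain ⟨y, b, rfl⟩ := m hk
    rw [← h.mul _ (hT a) _ (hT b), ← h.mul _ (hT b) _ (hT a)]
    exact (h.eqv_iff z1 (hT (mul_mem a b)) (hT (mul_mem b a))).2 (q.comm x a y b)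
  · obtain ⟨x, a, rfl⟩ := m hg
    rw [h.eq_one_iff (hT a), h.eq_iff (hT a) z1]
    exact q.cent x a fun y b => (h.comm_iff (hT a) (hT b)).1 (hc _ ((h.mem_img_iff (hT b)).2 b))
  · obtain ⟨x, a, b, c⟩ := q.nonab
    exact ⟨f x, (h.mem_img_iff (hT a)).2 a, fun e => b (h.inj x (hT a) e), fun e => c ((h.eq_iff (hT a) z1).1 e)⟩

end PH

/-- A chart: `j` maps `C_M(a)` isomorphically onto `C_G(j a)`. -/
structure Ch (a : M) (j : M → G) : Prop extends PH (centralizer {a}) j where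
  onto : ∀ g, g * j a = j a * g → ∃ x, x * a = a * x ∧ j x = g

theorem ch_of_equiv {a : M} {t : G} (φ : centralizer ({a} : Set M) ≃* centralizer ({t} : Set G))
    (e : (φ ⟨a, mem_centralizer_singleton_iff.2 rfl⟩ : G) = t) : ∃ j : M → G, Ch a j ∧ j a = t := by
  classical
  let j : M → G := fun x => if hx : x ∈ centralizer ({a} : Set M) then φ ⟨x, hx⟩ else 1
  have hj : ∀ x hx, j x = φ ⟨x, hx⟩ := fun x hx => dif_pos hx
  have ha : j a = t := (hj a _).trans e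
  refine ⟨j, ⟨⟨fun x hx y hy => ?_, fun x hx e => ?_⟩, fun g hg => ?_⟩, ha⟩
  · rw [hj _ hx, hj _ hy, hj _ (mul_mem hx hy), ← coe_mul, ← map_mul]; rfl
  · rw [hj _ hx, OneMemClass.coe_eq_one, map_eq_one_iff _ φ.injective] at e
    exact congrArg Subtype.val e
  · rw [ha] at hg
    obtain ⟨x, hx⟩ := φ.surjective ⟨g, mem_centralizer_singleton_iff.2 hg⟩
    exact ⟨x, mem_centralizer_singleton_iff.1 x.2, (hj _ x.2).trans (congrArg Subtype.val hx)⟩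

/-- The elements of `C(z)` fixing `a` modulo `z`. -/
def NS (z a : G) : Subgroup G where
  carrier := {x | x * z = z * x ∧ ∃ e ∈ zpowers z, x * a * x⁻¹ = a * e}
  one_mem' := ⟨by simp, 1, one_mem _, by simp⟩
  mul_mem' := by
    rintro x y ⟨h1, e, ⟨n, rfl⟩, h2⟩ ⟨h3, e', ⟨m, rfl⟩, h4⟩
    refine ⟨comm_mul_left h1 h3, _, mul_mem ⟨n, rfl⟩ ⟨m, rfl⟩, ?_⟩
    calc _ = x * (y * a * y⁻¹) * x⁻¹ := by group
      _ = x * a * x⁻¹ * (x * z ^ m * x⁻¹) := by rw [h4]; group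
      _ = _ := by rw [h2, conj_eq_of_comm (Commute.zpow_right h1 m).eq, mul_assoc]
  inv_mem' := by
    rintro x ⟨h1, e, ⟨n, rfl⟩, h2⟩
    refine ⟨comm_inv_left h1, _, inv_mem ⟨n, rfl⟩, ?_⟩
    have := (Commute.zpow_right h1 n).inv_right.eq
    calc _ = x⁻¹ * (a * z ^ n) * (z ^ n)⁻¹ * x := by group
      _ = _ := by rw [← h2, mul_assoc, ← this]; group

theorem mem_NS {z a x : G} (hz : z * z = 1) : x ∈ NS z a ↔ x * z = z * x ∧ Eqv z (x * a * x⁻¹) a := by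
  refine and_congr_right fun _ => ⟨fun ⟨e, he, h⟩ => ?_, fun h => ?_⟩
  · rcases (mem_zpowers_invol hz).1 he with rfl | rfl
    exacts [.inl (by simpa using h), .inr h]
  · rcases h with h | h
    exacts [⟨1, one_mem _, by simpa using h⟩, ⟨z, mem_zpowers z, h⟩]

theorem mem_NS_of_comm {z a x : G} (ha : x * a = a * x) (hz : x * z = z * x) : x ∈ NS z a :=
  ⟨hz, 1, one_mem _, by rw [conj_eq_of_comm ha, mul_one]⟩

theorem XS_le_NS {Q : Subgroup G} {z a : G} (h : XS Q z) (ha : a ∈ Q) : Q ≤ NS z a :=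
  fun x hx => (mem_NS h.z_sq).2 ⟨h.z_comm x hx, h.conj hx ha⟩

theorem conj_mem_NS {z a x : G} (g : G) (hx : x ∈ NS z a) :
    g * x * g⁻¹ ∈ NS (g * z * g⁻¹) (g * a * g⁻¹) := by
  obtain ⟨h1, e, ⟨n, rfl⟩, h2⟩ := hx
  refine ⟨by rw [conj_mul, conj_mul, h1], _, ⟨n, rfl⟩, ?_⟩
  simp only [conj_zpow, conj_inv, conj_mul, h2]

/-- `Θ` extends the chart `j` from `C(a, z)` to an isomorphism `NS z a → NS (j z) (j a)`. -/
structure Ext (z a : M) (j Θ : M → G) : Prop extends PH (NS z a) Θ where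
  eq : ∀ x, x * a = a * x → x * z = z * x → Θ x = j x
  onto : ∀ g ∈ NS (j z) (j a), ∃ x ∈ NS z a, Θ x = g

/-- `n` centralises `z` and acts on the image of `φ` modulo `z` as `g`. -/
def Act (z : G) (φ : leechLattice → G) (n : G) (g : Co0) : Prop :=
  n * z = z * n ∧ ∀ v, Eqv z (φ (g • v)) (n * φ v * n⁻¹)

end Cfsg.Agent.Std2B
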