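import Cfsg.Agent.F24.OddPar
import Cfsg.Agent.LES.Setting

/-! The parity argument over an extraspecial group with central `z`. -/

set_option autoImplicit false

namespace Cfsg.Agent.Std2B

open Cfsg Cfsg.Agent.TT Cfsg.Agent.LES Cfsg.Agent.OddPar Subgroup

section

variable {H : Type*} [Group H] [Finite H]

theorem semireg' {Ω : Type*} [MulAction H Ω] {B : Ω → Subgroup H} {T : Ω → Set H} (h : OS B T)
    {o : Ω} (tr : ∀ a, ∃ g : H, g • a = o) (ti : ∀ a b, a ≠ b → B a ⊓ B b = ⊥)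
    (hX : ∀ X : Subgroup H, (∀ x ∈ X, x • o = o) → (∀ x ∈ X, x * x = 1) →
      (∀ x ∈ X, ∀ t ∈ T o, t * x = x * t → x = 1) → Nat.card X * Nat.card X < Nat.card (B o))
    {a b : Ω} {x : H} (hab : a ≠ b) (hx : x ∈ B a) (hb : x • b = b) : x = 1 := by
  have k : ∀ {a b x y}, x ∈ B a → x ≠ 1 → y ∈ B b → y * x = x * y → y • a = a :=
    fun {a b x y} hx h1 _ hy => by_contra fun hn => h1 (mem_bot.1 (ti _ _ hn ▸
      ⟨by simpa [hy] using h.Bs y a x hx, hx⟩))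
  by_contra h1
  have h2 : Nat.card ↥(B b ⊓ centralizer {x}) ≤ Nat.card ↥(B b ⊓ MulAction.stabilizer H a) :=
    card_le_of_le (inf_le_inf_left _ fun y hy => by_contra fun hn => h1 (mem_bot.1 (ti _ _ hn ▸
      ⟨by simpa [mem_centralizer_singleton_iff.1 hy] using h.Bs y a x hx, hx⟩)))
  have h3 := card_le_sq (h.sq b) (h.sq a x hx) fun y hy => hb ▸ h.Bs x b y hy
  obtain ⟨g, rfl⟩ := tr a
  have hg := (MulAction.injective g).ne hab
  have h4 := h.card_stab g b a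
  have h5 := hX (B (g • b) ⊓ MulAction.stabilizer H (g • a)) (fun _ h => h.2)
    (fun x hx => h.sq _ x hx.1) fun y hy t ht e => by_contra fun y1 =>
      hg (h.uniq _ t ht _ (k hy.1 y1 (h.sub _ t ht) e)).symm
  obtain ⟨g', e⟩ := tr b
  have h6 := h.card_B g'⁻¹ (g • a)
  rw [← e, inv_smul_smul, e] at h6
  have := Nat.mul_le_mul (h2.trans h4) (h2.trans h4)
  omega

/-- The parity lemma, with a weaker condition on complements. -/
theorem par_top {N B : Subgroup H} {T : Set H} (le : B ≤ N)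
    (norm : ∀ n ∈ N, ∀ b ∈ B, n * b * n⁻¹ ∈ B) (sq : ∀ b ∈ B, b * b = 1) (sub : ∀ t ∈ T, t ∈ B)
    (inv : ∀ n ∈ N, ∀ t ∈ T, n * t * n⁻¹ ∈ T) (uniq : ∀ t ∈ T, ∀ g, g⁻¹ * t * g ∈ N → g ∈ N)
    (ne : T.Nonempty) (ev : Even T.ncard)
    (hW : ∀ W ≤ B, (∀ t ∈ T, t ∉ W) → (∀ t ∈ T, ∀ t' ∈ T, ∃ n ∈ N,
      (∀ w ∈ W, Commute n w) ∧ n * t * n⁻¹ * t' ∈ W) → W = ⊥)
    (hX : ∀ X ≤ N, (∀ x ∈ X, x * x = 1) → (∀ x ∈ X, ∀ t ∈ T, t * x = x * t → x = 1) →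
      Nat.card X * Nat.card X < Nat.card B) : N = ⊤ := by
  let B' : H ⧸ N → Subgroup H := fun a => B.comap (MulAut.conj a.out⁻¹).toMonoidHom
  let T' : H ⧸ N → Set H := fun a => {t | a.out⁻¹ * t * a.out ∈ T}
  have o : ∀ g : H, ∃ n ∈ N, (g : H ⧸ N).out = g * n := fun g =>
    let ⟨n, e⟩ := QuotientGroup.mk_out_eq_mul N g; ⟨n, n.2, e⟩
  have mB : ∀ g x : H, x ∈ B' g ↔ g⁻¹ * x * g ∈ B := fun g x => by
    obtain ⟨n, hn, e⟩ := o g
    change (g : H ⧸ N).out⁻¹ * x * (g : H ⧸ N).out⁻¹⁻¹ ∈ B ↔ _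
    rw [e]
    exact ⟨fun h => by simpa [mul_assoc] using norm n hn _ h,
      fun h => by simpa [mul_assoc] using norm _ (inv_mem hn) _ h⟩
  have mT : ∀ g x : H, x ∈ T' g ↔ g⁻¹ * x * g ∈ T := fun g x => by
    obtain ⟨n, hn, e⟩ := o g
    change (g : H ⧸ N).out⁻¹ * x * (g : H ⧸ N).out ∈ T ↔ _
    rw [e]
    exact ⟨fun h => by simpa [mul_assoc] using inv n hn _ h,
      fun h => by simpa [mul_assoc] using inv _ (inv_mem hn) _ h⟩
  have fx : ∀ g x : H, x • (g : H ⧸ N) = g ↔ g⁻¹ * x * g ∈ N := fun g x => by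
    rw [MulAction.Quotient.smul_coe, eq_comm, QuotientGroup.eq, smul_eq_mul, mul_assoc]
  have h : OS B' T' := by
    refine ⟨?_, ?_, ?_, ?_, ?_, ?_⟩
    · rintro g ⟨k⟩ b hb
      exact (mB (g * k) _).2 (by simpa [mul_assoc] using (mB k b).1 hb)
    · rintro g ⟨k⟩ b hb
      exact (mT (g * k) _).2 (by simpa [mul_assoc] using (mT k b).1 hb)
    · rintro ⟨k⟩ b hb
      exact (mB k b).2 (sub _ ((mT k b).1 hb))
    · rintro ⟨k⟩ b hb
      simpa [mul_assoc] using congrArg (fun y => k * y * k⁻¹) (sq _ ((mB k b).1 hb))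
    · rintro ⟨k⟩ b hb
      exact (fx k b).2 (le ((mB k b).1 hb))
    · rintro ⟨k⟩ b hb ⟨g⟩ e
      exact (QuotientGroup.eq.2 (uniq _ ((mT k b).1 hb) (k⁻¹ * g)
        (by simpa [mul_assoc] using (fx g b).1 e))).symm
  have tr : ∀ a : H ⧸ N, ∃ g : H, g • a = ((1 : H) : H ⧸ N) := by
    rintro ⟨k⟩
    exact ⟨k⁻¹, congrArg _ (inv_mul_cancel k)⟩
  have eB : B' ((1 : H) : H ⧸ N) = B := Subgroup.ext fun x => by simp [mB]
  have eT : T' ((1 : H) : H ⧸ N) = T := Set.ext fun x => by simp [mT]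
  have ne' : ∀ a, (T' a).Nonempty := by
    rintro ⟨k⟩
    exact let ⟨t, ht⟩ := ne; ⟨k * t * k⁻¹, (mT k _).2 (by simpa [mul_assoc] using ht)⟩
  have ti := fun a b => h.inf_eq_bot tr (a := a) (b := b) ne' (by
    rw [eB, eT]
    exact fun W h1 h2 h3 => hW W h1 h2 fun t ht t' ht' => (h3 t ht t' ht').imp fun n hn =>
      ⟨by simpa using (fx 1 n).1 hn.1, hn.2⟩)
  rw [eq_top_iff]
  intro g _
  by_contra hg
  obtain ⟨t, ht⟩ := ne' g
  obtain ⟨u, hu⟩ := ne' ((1 : H) : H ⧸ N)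
  have := h.odd_ncard (fun a b x => semireg' h tr ti (by
    rw [eB, eT]
    exact fun X h1 => hX X fun x hx => by simpa using (fx 1 x).1 (h1 x hx)))
    (fun e => hg (by simpa using QuotientGroup.eq.1 e)) ht hu
  rw [eT] at this
  exact (Nat.not_even_iff_odd.2 this) ev

theorem even_ncard {T : Set H} {f : H → H} (h1 : ∀ t ∈ T, f t ∈ T) (h2 : ∀ t ∈ T, f (f t) = t)
    (h3 : ∀ t ∈ T, f t ≠ t) : Even T.ncard := by
  classical
  haveI := Fintype.ofFinite T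
  haveI : Fact (Nat.Prime 2) := ⟨Nat.prime_two⟩
  let F : Function.End T := fun t => ⟨f t, h1 t t.2⟩
  have h4 := Equiv.Perm.card_fixedPoints_modEq (f := F) (p := 2) (n := 1)
    (funext fun t => Subtype.ext (h2 t t.2))
  rw [Fintype.card_eq_zero_iff.2 ⟨fun (t : F.fixedPoints) => h3 _ t.1.2 (congrArg Subtype.val t.2)⟩,
    ← Nat.card_eq_fintype_card, Nat.card_coe_set_eq] at h4
  exact Nat.even_iff.2 h4

end

variable {K : Type*} [Group K] [Finite K] {z : K} {Q : Subgroup K} {T : Set K}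

/-- A subgroup `A` of `Q` avoiding `T`, modulo which `C(A/z)` is transitive on `T`, is central. -/
theorem le_of_quad (xs : XS Q z) (hz : ∀ k, k * z = z * k) (nQ : ∀ k, ∀ q ∈ Q, k * q * k⁻¹ ∈ Q)
    (sub : ∀ t ∈ T, t ∈ Q) (ne : T.Nonempty)
    (hl : ∀ w ∈ Q, (∀ t ∈ T, ∀ t' ∈ T, cmv w t = cmv w t') → ∀ q ∈ Q, cmv w q = 0)
    (hq : ∀ p : K → K, (∀ x ∈ Q, p x ∈ Q) → (∀ x ∈ Q, ∀ y ∈ Q, Eqv z (p (x * y)) (p x * p y)) →
      (∀ x ∈ Q, ∀ y, Eqv z y x → Eqv z (p y) (p x)) →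
      (∀ t ∈ T, ∀ t' ∈ T, sqv (p t) = sqv (p t')) → ∀ x ∈ Q, x * x = 1 → p x * p x = 1)
    {A : Subgroup K} (hA : A ≤ Q) (zA : z ∈ A) (h1 : ∀ t ∈ T, t ∉ A)
    (h2 : ∀ t ∈ T, ∀ t' ∈ T, ∃ n, (∀ w ∈ A, Eqv z (n * w * n⁻¹) w) ∧ n * t * n⁻¹ * t' ∈ A) :
    ∀ x ∈ A, Eqv z x 1 := by
  have zs := xs.z_sq
  let D := Q ⊓ centralizer (A : Set K)
  have zD : z ∈ D := ⟨xs.z_mem, fun a ha => hz a⟩
  have rad : ∀ w ∈ A, w ∈ D → Eqv z w 1 := fun w hw hD => by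
    refine eqv_one_iff.2 (xs.cent w (hA hw) fun y hy => cmv_eq_zero.1 (hl w (hA hw) ?_ y hy))
    intro t ht t' ht'
    obtain ⟨n, a, b⟩ := h2 t ht t' ht'
    have := cmv_mul_right xs (nQ n t (sub t ht)) (sub t' ht') (hA hw)
    rw [cmv_eq_zero.2 (hD.2 _ b).symm, ← cmv_eqv xs (nQ n t (sub t ht)) (a w hw), cmv_conj] at this
    exact (CharTwo.add_eq_zero.1 this.symm)
  let S : Subgroup K :=
    { carrier := {x | ∃ c ∈ D, x * c⁻¹ ∈ A}
      one_mem' := ⟨1, one_mem _, by simp⟩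
      mul_mem' := by
        rintro x y ⟨c, c1, c2⟩ ⟨d, d1, d2⟩
        refine ⟨c * d, mul_mem c1 d1, ?_⟩
        have := mul_mem c2 d2
        rwa [mul_assoc, ← (inv_mem c1).2 _ d2, ← mul_assoc, ← mul_assoc, mul_assoc (x * y),
          ← mul_inv_rev] at this
      inv_mem' := by
        rintro x ⟨c, c1, c2⟩
        refine ⟨c⁻¹, inv_mem c1, ?_⟩
        have := inv_mem c2
        rwa [← conj_eq_of_comm ((inv_mem c1).2 _ this).symm, show c⁻¹ * (x * c⁻¹)⁻¹ * c⁻¹⁻¹ =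
          x⁻¹ * c⁻¹⁻¹ by group] at this }
  have dc : ∀ q ∈ Q, (∀ c ∈ D, c * q = q * c) → q ∈ A := fun q hq e =>
    xs.mem_of_comm_centralizer hA zA hq fun c hc e' => e c ⟨hc, e'⟩
  have top : ∀ x ∈ Q, ∃ c ∈ D, x * c⁻¹ ∈ A := fun x hx => by
    refine xs.mem_of_comm_centralizer (A := S) ?_ ⟨1, one_mem _, by simpa using zA⟩ hx
      fun q hq e => ?_
    · rintro y ⟨c, c1, c2⟩
      exact (Q.mul_mem_cancel_right (inv_mem c1.1)).1 (hA c2)
    · rcases eqv_one_iff.1 (rad q (dc q hq fun c hc => e c ⟨c, hc, by simp⟩)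
        ⟨hq, fun a ha => e a ⟨1, one_mem _, by simpa using ha⟩⟩) with rfl | rfl
      exacts [by simp, (hz x).symm]
  choose! p p1 p2 using top
  have un : ∀ x ∈ Q, ∀ c ∈ D, x * c⁻¹ ∈ A → Eqv z (p x) c := fun x hx c c1 c2 => by
    have := rad (p x * c⁻¹) (by simpa [mul_assoc] using mul_mem (inv_mem (p2 x hx)) c2)
      (mul_mem (p1 x hx) (inv_mem c1))
    simpa using this.mul_right (hz c)
  have pm : ∀ x ∈ Q, ∀ y ∈ Q, Eqv z (p (x * y)) (p x * p y) := fun x hx y hy => by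
    refine un _ (mul_mem hx hy) _ (mul_mem (p1 x hx) (p1 y hy)) ?_
    have := mul_mem (p2 x hx) (p2 y hy)
    rwa [mul_assoc, ← (inv_mem (p1 x hx)).2 _ (p2 y hy), ← mul_assoc, ← mul_assoc, mul_assoc (x * y),
      ← mul_inv_rev] at this
  have key := hq p (fun x hx => (p1 x hx).1) pm (fun x hx y e => by
      refine un y (e.mem xs.z_mem hx) _ (p1 x hx) ?_
      rcases e with rfl | rfl
      · exact p2 _ hx
      · rw [mul_assoc, ← hz, ← mul_assoc]; exact mul_mem (p2 x hx) zA) fun t ht t' ht' => by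
    obtain ⟨n, a, b⟩ := h2 t ht t' ht'
    have h3 : n * p t * n⁻¹ ∈ D := ⟨nQ n _ (p1 t (sub t ht)).1, fun w hw => by
      rw [← cmv_eq_zero, ← cmv_eqv xs (nQ n _ (p1 t (sub t ht)).1) (a w hw), cmv_conj, cmv_eq_zero]
      exact (p1 t (sub t ht)).2 w hw⟩
    have h4 := un t' (sub t' ht') _ (inv_mem h3) (by
      have h5 := mul_mem (inv_mem ((a _ (p2 t (sub t ht))).mem zA (p2 t (sub t ht)))) b
      have h6 := (inv_mem h3).2 _ h5
      rwa [← conj_eq_of_comm h6.symm, show (n * p t * n⁻¹)⁻¹ * ((n * (t * (p t)⁻¹) * n⁻¹)⁻¹ *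
        (n * t * n⁻¹ * t')) * (n * p t * n⁻¹)⁻¹⁻¹ = t' * (n * p t * n⁻¹)⁻¹⁻¹ by group] at h5)
    rw [sqv_eqv xs (inv_mem h3.1) h4, ← sqv_conj n (p t)]
    exact sqv_congr (by rw [← mul_inv_rev, inv_eq_one])
  by_contra hc
  push Not at hc
  obtain ⟨w, hw, w1⟩ : ∃ w ∈ A, w * w ≠ 1 := by
    by_contra hs
    push Not at hs
    obtain ⟨x, hx, x1⟩ := hc
    exact x1 (rad x hx ⟨hA hx, fun a ha => comm_of_sq_eq_one hs ha hx⟩)
  have sD : ∀ c ∈ D, c * c = 1 := fun c c1 => by_contra fun c2 => by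
    have h3 := sqv_mul xs (hA hw) c1.1
    rw [sqv_eq_one.2 w1, sqv_eq_one.2 c2, cmv_eq_zero.2 (c1.2 w hw)] at h3
    have h4 := key _ (mul_mem (hA hw) c1.1) (sqv_eq_zero.1 (h3.trans rfl))
    rw [eqv_sq xs c1.1 (un _ (mul_mem (hA hw) c1.1) c c1 (by simpa using hw))] at h4
    exact c2 h4
  obtain ⟨t, ht⟩ := ne
  have h3 := p1 t (sub t ht)
  exact h1 t ht ((A.mul_mem_cancel_right (inv_mem (dc _ h3.1 fun c hc =>
    comm_of_sq_eq_one sD hc h3))).1 (p2 t (sub t ht)))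

/-- The parity argument for an extraspecial normal subgroup `Q` of `K ≤ C` with `z` central. -/
theorem eq_top_xs {C : Type*} [Group C] [Finite C] {K : Subgroup C} {z : K} {Q : Subgroup K}
    {T : Set K} (xs : XS Q z) (hz : ∀ g : C, g * z = z * g) (nQ : ∀ k, ∀ q ∈ Q, k * q * k⁻¹ ∈ Q)
    (sub : ∀ t ∈ T, t ∈ Q) (inv : ∀ k, ∀ t ∈ T, ∃ t' ∈ T, Eqv z (k * t * k⁻¹) t')
    (uniq : ∀ t ∈ T, ∀ g : C, g⁻¹ * t * g ∈ K → g ∈ K) (ne : T.Nonempty)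
    (ev : ∃ n, ∀ t ∈ T, Eqv z (n * (n * t * n⁻¹) * n⁻¹) t ∧ ¬ Eqv z (n * t * n⁻¹) t)
    (hW : ∀ A ≤ Q, z ∈ A → (∀ t ∈ T, t ∉ A) → (∀ t ∈ T, ∀ t' ∈ T, ∃ n,
      (∀ w ∈ A, Eqv z (n * w * n⁻¹) w) ∧ n * t * n⁻¹ * t' ∈ A) → ∀ x ∈ A, Eqv z x 1)
    (hX : ∀ X : Subgroup K, z ∈ X → (∀ x ∈ X, Eqv z (x * x) 1) →
      (∀ x ∈ X, ∀ t ∈ T, Eqv z (x * t * x⁻¹) t → Eqv z x 1) →
      Nat.card X * Nat.card X < 2 * Nat.card Q) : K = ⊤ := by
  haveI : (zpowers (z : C)).Normal := ⟨by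
    rintro _ ⟨n, rfl⟩ g
    exact ⟨n, (conj_eq_of_comm (Commute.zpow_right (hz g) n).eq).symm⟩⟩
  have zs : (z : C) * z = 1 := congrArg Subtype.val xs.z_sq
  have hz' : ∀ k : K, k * z = z * k := fun k => Subtype.ext (hz k)
  let m : K →* C ⧸ zpowers (z : C) := (QuotientGroup.mk' _).comp K.subtype
  have me : ∀ x y, m x = m y ↔ Eqv z x y := fun x y => by
    rw [eq_comm]
    refine QuotientGroup.eq.trans ((mem_zpowers_invol zs).trans ?_)
    simp only [coe_subtype, inv_mul_eq_iff_eq_mul, mul_one, Eqv, Subtype.ext_iff, coe_mul]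
  have m1 : ∀ x, m x = 1 ↔ Eqv z x 1 := fun x => by rw [← me, map_one]
  have mz : m z = 1 := (m1 z).2 (.inr (one_mul z).symm)
  have cd : ∀ X : Subgroup K, z ∈ X → Nat.card X = 2 * Nat.card (X.map m) := fun X hX => by
    have e : X ⊓ m.ker = zpowers z := Subgroup.ext fun x => by
      rw [mem_inf, MonoidHom.mem_ker, m1, eqv_one_iff, mem_zpowers_invol xs.z_sq]
      exact ⟨fun h => h.2, fun h => ⟨h.elim (· ▸ one_mem _) (· ▸ hX), h⟩⟩
    rw [← Grp.card_map_mul_card_inf_ker m X, e, Nat.card_zpowers, xs.orderOf_z, mul_comm]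
  have mN : ∀ g : C, (g : C ⧸ zpowers (z : C)) ∈ m.range → g ∈ K := by
    rintro g ⟨k, e⟩
    have := (zpowers_le.2 z.2) (QuotientGroup.eq.1 e)
    exact (K.mul_mem_cancel_left (inv_mem k.2)).1 this
  have top := par_top (N := m.range) (B := Q.map m) (T := m '' T) (map_le_range _ _)
    (by rintro _ ⟨k, rfl⟩ _ ⟨q, hq, rfl⟩; exact ⟨_, nQ k q hq, by simp⟩)
    (by rintro _ ⟨q, hq, rfl⟩; rw [← map_mul, m1, eqv_one_iff]; exact xs.sq hq)
    (by rintro _ ⟨t, ht, rfl⟩; exact ⟨t, sub t ht, rfl⟩)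
    (by
      rintro _ ⟨k, rfl⟩ _ ⟨t, ht, rfl⟩
      obtain ⟨t', a, b⟩ := inv k t ht
      exact ⟨t', a, by rw [← (me _ _).2 b]; simp⟩)
    (by
      rintro _ ⟨t, ht, rfl⟩ ⟨g⟩ e
      exact ⟨⟨g, uniq t ht g (mN _ e)⟩, rfl⟩)
    (ne.image m) (by
      obtain ⟨n, hn⟩ := ev
      refine even_ncard (f := fun x => m n * x * (m n)⁻¹) ?_ ?_ ?_ <;> rintro _ ⟨t, ht, rfl⟩
      · obtain ⟨t', a, b⟩ := inv n t ht
        exact ⟨t', a, by rw [← (me _ _).2 b]; simp⟩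
      · simpa using (me _ _).2 (hn t ht).1
      · exact fun e => (hn t ht).2 ((me _ _).1 (by simpa using e)))
    (fun W h1 h2 h3 => by
      have := hW (W.comap m) (fun x hx => by
          obtain ⟨q, hq, e⟩ := h1 hx
          exact (((me _ _).1 e).symm xs.z_sq).mem xs.z_mem hq)
        (by rw [mem_comap, mz]; exact one_mem _) (fun t ht => h2 _ ⟨t, ht, rfl⟩) fun t ht t' ht' => by
          obtain ⟨_, ⟨n, rfl⟩, a, b⟩ := h3 _ ⟨t, ht, rfl⟩ _ ⟨t', ht', rfl⟩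
          exact ⟨n, fun w hw => (me _ _).1 (by simpa using conj_eq_of_comm (a _ hw).eq),
            by simpa using b⟩
      refine eq_bot_iff.2 fun x hx => ?_
      obtain ⟨q, -, rfl⟩ := h1 hx
      exact (m1 q).2 (this q hx))
    fun X h1 h2 h3 => by
      have h4 := hX (X.comap m) (by rw [mem_comap, mz]; exact one_mem _)
        (fun x hx => (m1 _).1 (by rw [map_mul]; exact h2 _ hx)) fun x hx t ht e =>
          (m1 x).1 (h3 _ hx _ ⟨t, ht, rfl⟩ (comm_of_conj_eq (by simpa using (me _ _).2 e)).symm)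
      rw [cd _ (by rw [mem_comap, mz]; exact one_mem _), cd Q xs.z_mem,
        map_comap_eq_self h1] at h4
      nlinarith
  exact eq_top_iff.2 fun g _ => mN g (top.ge (mem_top _))

end Cfsg.Agent.Std2B
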