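import Cfsg.Agent.Mon.Loc0
import Cfsg.Agent.Spor.Co2Trans16

/-! Leech lattice lemmas for the parity argument. -/

set_option autoImplicit false

namespace Cfsg.Agent.Std2B

open Cfsg Cfsg.Spor Cfsg.Agent.LES Cfsg.Agent.Spor Cfsg.Agent.Spor.Leech Cfsg.Agent.Spor.M24C

/-- A quadratic form on `Λ / 2Λ` which is constant on short vectors vanishes on singular vectors. -/
theorem quad_zero (f : leechLattice → ZMod 2) (h1 : ∀ v w, f (v + (w + w)) = f v)
    (h2 : ∀ u v w, f (u + v + w) + f u + f v + f w = f (u + v) + f (u + w) + f (v + w))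
    (h3 : ∀ v w : leechLattice, sqNorm (v : GolayPt → ℤ) = 32 → sqNorm (w : GolayPt → ℤ) = 32 →
      f v = f w) (v : leechLattice) (hv : sqNorm (v : GolayPt → ℤ) % 32 = 0) : f v = 0 := by
  have two : (2 : ZMod 2) = 0 := rfl
  have hu := fun v h => h3 v _ h sqNorm_leechU
  have h64 : ∀ x : leechLattice, sqNorm (x : GolayPt → ℤ) = 64 → f x = 0 := fun x hx => by
    obtain ⟨g, rfl⟩ := trans_64 (v := v44 none (some 0) (-4) rfl + v44 (some 1) (some 2) (-4) rfl)
      (by decide) hx
    have hg : ∀ y : leechLattice, sqNorm (y : GolayPt → ℤ) = 32 → f (g • y) = f leechU :=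
      fun y hy => hu _ ((sqNorm_smul g y).trans hy)
    have := h2 (g • v44 none (some 0) (-4) rfl) (g • v44 (some 0) (some 1) (-4) rfl)
      (g • v44 (some 1) (some 2) (-4) rfl)
    simp only [← smul_add] at this
    rw [hg _ (by decide), hg (v44 none (some 0) (-4) rfl) (by decide),
      hg (v44 (some 0) (some 1) (-4) rfl) (by decide), hg (v44 (some 1) (some 2) (-4) rfl) (by decide),
      hg (_ + _) (by decide), hg (v44 (some 0) (some 1) (-4) rfl + _) (by decide)] at this
    linear_combination -this + f leechU * two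
  have hc : f leechU = 0 := by
    have := h2 (v44 none (some 0) 4 rfl) (v44 (some 1) (some 2) 4 rfl) (v44 (some 3) (some 4) 4 rfl)
    have e := h1 (v44 none (some 0) 4 rfl + v44 (some 1) (some 2) 4 rfl + v44 (some 3) (some 4) 4 rfl)
      (-two_ind _ XSC.C1.o0_GC)
    rw [← e, h64 _ (by decide), hu _ (by decide), hu (v44 (some 1) (some 2) 4 rfl) (by decide),
      hu (v44 (some 3) (some 4) 4 rfl) (by decide), h64 (_ + _) (by decide), h64 (_ + _) (by decide),
      h64 (_ + _) (by decide)] at this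
    linear_combination this - f leechU * two
  obtain ⟨y, a, x, b⟩ := isLeechForm.exists_short v
  rw [dotForm_apply, dotInt_self] at a
  have e : v = y + (x + x) := by rw [← two_smul ℕ x, ← b]; abel
  have c1 := sixteen_dvd_sqNorm x.2
  have c2 := eight_dvd_dotInt y.2 x.2
  rw [e, AddSubgroup.coe_add, AddSubgroup.coe_add, sqNorm_add, sqNorm_add, dotInt_add_right,
    dotInt_self] at hv
  rw [e, h1]
  by_cases hy : y = 0
  · have := h2 0 0 0
    simp only [add_zero] at this
    rw [hy]; linear_combination this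
  have := min_norm y.2 fun h => hy (Subtype.ext h)
  rcases (by omega : sqNorm (y : GolayPt → ℤ) = 32 ∨ sqNorm (y : GolayPt → ℤ) = 64) with h | h
  exacts [(hu y h).trans hc, h64 y h]

theorem lin_zero (f : leechLattice → ZMod 2) (h1 : ∀ v w, f (v + w) = f v + f w)
    (h3 : ∀ v w : leechLattice, sqNorm (v : GolayPt → ℤ) = 32 → sqNorm (w : GolayPt → ℤ) = 32 →
      f v = f w) (v : leechLattice) : f v = 0 := by
  have two : (2 : ZMod 2) = 0 := rfl
  have h2 : ∀ v w, f (v + (w + w)) = f v := fun v w => by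
    rw [h1, h1]; linear_combination f w * two
  have key := quad_zero f h2 (fun u v w => by simp only [h1]; ring) h3
  by_cases hv : sqNorm (v : GolayPt → ℤ) % 32 = 0
  · exact key v hv
  obtain ⟨y, a, x, b⟩ := isLeechForm.exists_short v
  rw [dotForm_apply, dotInt_self] at a
  have e : v = y + (x + x) := by rw [← two_smul ℕ x, ← b]; abel
  have c1 := sixteen_dvd_sqNorm x.2
  have c2 := eight_dvd_dotInt y.2 x.2
  have c3 := sixteen_dvd_sqNorm y.2
  rw [e, AddSubgroup.coe_add, AddSubgroup.coe_add, sqNorm_add, sqNorm_add, dotInt_add_right,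
    dotInt_self] at hv
  have c5 : sqNorm (y : GolayPt → ℤ) % 32 = 16 := by omega
  have c4 := min_norm y.2 fun h => by rw [h] at c5; simp [sqNorm] at c5
  obtain ⟨g, rfl⟩ := trans_48 sqNorm_u5 (w := y) (by omega)
  rw [e, h2, ← sub_add_cancel u5 (e8 none), smul_add, h1, key, key, add_zero]
  · rw [sqNorm_smul, sqNorm_e8]; rfl
  · rw [sqNorm_smul]; decide

/-- An involution of `Co0` fixes a triangle of short vectors up to signs. -/
theorem exists_tri {h : Co0} (hh : h * h = 1) : ∃ x y : leechLattice,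
    sqNorm (x : GolayPt → ℤ) = 32 ∧ sqNorm (y : GolayPt → ℤ) = 32 ∧
    sqNorm ((x + y : leechLattice) : GolayPt → ℤ) = 32 ∧ (∃ w, h • x - x = w + w) ∧
    ∃ w, h • y - y = w + w := by
  obtain ⟨c, hc, e⟩ := XSC.C1.good_of_sq hh
  obtain ⟨g, e⟩ := isConj_iff.1 e.symm
  obtain ⟨i, j, k, ij, ik, jk, hs⟩ : ∃ i j k : GolayPt, i ≠ j ∧ i ≠ k ∧ j ≠ k ∧
      (i ∈ c ↔ j ∈ c) ∧ (j ∈ c ↔ k ∈ c) := by
    by_cases h2 : 2 < c.card
    · obtain ⟨i, a, j, b, k, d, e1, e2, e3⟩ := Finset.two_lt_card.1 h2
      exact ⟨i, j, k, e1, e2, e3, iff_of_true a b, iff_of_true b d⟩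
    · obtain ⟨i, a, j, b, k, d, e1, e2, e3⟩ := Finset.two_lt_card.1 (show 2 < cᶜ.card by
        rw [Finset.card_compl, Leech.card_golayPt]; omega)
      rw [Finset.mem_compl] at a b d
      exact ⟨i, j, k, e1, e2, e3, iff_of_false a b, iff_of_false b d⟩
  have key : ∀ {i j}, (i ∈ c ↔ j ∈ c) → ∃ w, h • g • v44 i j (-4) rfl - g • v44 i j (-4) rfl = w + w :=
    fun {i j} a => by
      rw [← e, mul_smul, mul_smul, inv_smul_smul, ← smul_sub]
      by_cases b : i ∈ c
      · refine ⟨g • -v44 i j (-4) rfl, ?_⟩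
        rw [← smul_add, show sgn c hc • v44 i j (-4) rfl = -v44 i j (-4) rfl from Subtype.ext
          (funext fun l => by
            rw [sgn_smul]
            by_cases d : l ∈ c
            · rw [if_pos d]; rfl
            · have : l ≠ i := fun e => d (e ▸ b)
              have : l ≠ j := fun e => d (e ▸ a.1 b)
              simp [v44, *]), sub_eq_add_neg]
      · refine ⟨0, ?_⟩
        rw [show sgn c hc • v44 i j (-4) rfl = v44 i j (-4) rfl from Subtype.ext
          (funext fun l => by
            rw [sgn_smul]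
            by_cases d : l ∈ c
            · have : l ≠ i := fun e => b (e ▸ d)
              have : l ≠ j := fun e => b (a.2 (e ▸ d))
              simp [v44, *]
            · rw [if_neg d]), sub_self, smul_zero, add_zero]
  have nm : ∀ {i j}, i ≠ j → sqNorm ((g • v44 i j (-4) rfl : leechLattice) : GolayPt → ℤ) = 32 :=
    fun a => (sqNorm_smul _ _).trans ((sqNorm_single_add_single a _ _).trans rfl)
  refine ⟨_, _, nm ij, nm jk, ?_, key hs.1, key hs.2⟩
  rw [← smul_add, show v44 i j (-4) rfl + v44 j k (-4) rfl = v44 i k (-4) rfl from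
    Subtype.ext (by
      change _ + _ + (_ + _) = _ + _
      rw [add_assoc, ← add_assoc (Pi.single j _), ← Pi.single_add]; simp)]
  exact nm ik

theorem smul_of_sq {h : Co0} (hh : h * h = negOne) (v : leechLattice) : h • h • v = -v := by
  rw [← mul_smul, hh, negOne_smul]

theorem dot_of_sq {h : Co0} (hh : h * h = negOne) (v w : leechLattice) :
    dotInt ((h • v : leechLattice) : GolayPt → ℤ) (w : GolayPt → ℤ) =
      -dotInt (v : GolayPt → ℤ) ((h • w : leechLattice) : GolayPt → ℤ) := by
  rw [← dotInt_smul h, smul_of_sq hh, AddSubgroup.coe_neg, dotInt_neg_left]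

end Cfsg.Agent.Std2B
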