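import Cfsg.Agent.Mon.Loc
import Cfsg.Agent.Mon.BFix
import Cfsg.Agent.Mon.CF0

/-! Involutions of `Co0` with a large fixed space on `Λ / 2Λ`. -/

set_option autoImplicit false

namespace Cfsg.Agent.Std2B

open Cfsg Cfsg.Spor Cfsg.Agent.Spor Cfsg.Agent.Spor.Leech Subgroup Cfsg.Agent.TT Cfsg.Agent.LES
  Cfsg.Agent.Mon Cfsg.Agent.Mon.LL

/-- `B` has index at most two in `A`. -/
def Two (A B : AddSubgroup leechLattice) : Prop :=
  B ≤ A ∧ ∀ x ∈ A, ∀ y ∈ A, x ∉ B → y ∉ B → x + y ∈ B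

/-- `A` has finite index at most `n`. -/
def Idx (A : AddSubgroup leechLattice) (n : ℕ) : Prop := A.index ≠ 0 ∧ A.index ≤ n

theorem idx_top : Idx ⊤ 1 := by simp [Idx]

theorem Two.idx {A B : AddSubgroup leechLattice} (h : Two A B) {n : ℕ} (hA : Idx A n) :
    Idx B (2 * n) := by
  have e := AddSubgroup.relIndex_mul_index h.1
  have : B.relIndex A = 1 ∨ B.relIndex A = 2 := by
    by_cases c : A ≤ B
    · exact Or.inl (AddSubgroup.relIndex_eq_one.2 c)
    · obtain ⟨a, ha, hb⟩ := SetLike.not_le_iff_exists.1 c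
      refine Or.inr (AddSubgroup.index_eq_two_iff.2 ⟨⟨a, ha⟩, fun b => ?_⟩)
      by_cases c' : (b : leechLattice) ∈ B
      · exact Or.inr ⟨c', fun c'' => hb ((B.add_mem_cancel_left c').1 c'')⟩
      · exact Or.inl ⟨h.2 _ b.2 _ ha c' hb, c'⟩
  obtain ⟨h1, h2⟩ := hA
  rcases this with c | c <;> rw [c] at e <;> constructor <;> omega

theorem exists_family {d : Finset GolayPt} (hd : d ∈ GC) (h : d.card = 8 ∨ d.card = 12) :
    ∃ (S : Finset GolayPt) (v : Finset GolayPt → leechLattice), 6 ≤ S.card ∧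
      ∀ T ⊆ S, ∀ T' ⊆ S, v T - v T' ∈ fixSub (sgn d hd) → T = T' := by
  obtain ⟨p, hp, q, hq, hpq⟩ := Finset.one_lt_card.1 (show 1 < d.card by omega)
  obtain ⟨o, ho⟩ := exists_not_mem h
  have key : ∀ T : Finset GolayPt, ∃ v : leechLattice, T ⊆ (d.erase p).erase q →
      ∀ i ∈ d, i ≠ q → (v : GolayPt → ℤ) i = if i ∈ T then 2 else 0 := fun T => by
    by_cases hT : T ⊆ (d.erase p).erase q
    · have h1 : T ⊆ d := hT.trans ((Finset.erase_subset _ _).trans (Finset.erase_subset _ _))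
      have h2 : q ∉ T := fun c => by simpa using hT c
      obtain ⟨t, h3, h4, h5⟩ : ∃ t ⊆ d, t.card % 2 = 0 ∧ ∀ i, i ≠ q → (i ∈ t ↔ i ∈ T) := by
        by_cases c : T.card % 2 = 0
        · exact ⟨T, h1, c, fun _ _ => Iff.rfl⟩
        · exact ⟨insert q T, Finset.insert_subset hq h1, by
            rw [Finset.card_insert_of_notMem h2]; omega, fun i hi => by simp [hi]⟩
      obtain ⟨f, hf, e⟩ := exists_GC_even hd h h3 h4
      obtain ⟨v, hv⟩ := exists_ext hf (Or.inl rfl) d ho (fun i => if i ∈ f then 2 else 0)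
        fun i _ => by split_ifs <;> rfl
      refine ⟨v, fun _ i hi hq => ?_⟩
      rw [hv i hi]
      simp [← h5 i hq, ← e, hi]
    · exact ⟨0, fun c => absurd c hT⟩
  choose v hv using key
  refine ⟨(d.erase p).erase q, v, ?_, fun T hT T' hT' ⟨y, hy⟩ => ?_⟩
  · rw [Finset.card_erase_of_mem (Finset.mem_erase.2 ⟨hpq.symm, hq⟩), Finset.card_erase_of_mem hp]
    omega
  have e := coord_of_fix hd hy
  obtain ⟨c, hc, h1, -⟩ := even_of_zero y.2 (p := o) (by rw [e, if_neg ho]; rfl)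
  have h2 : c ⊆ d := fun i hi => by
    by_contra c'
    have := h1 i
    rw [e, if_neg c', if_pos hi] at this
    omega
  have h3 : ∀ i ∈ d, i ≠ q → (y : GolayPt → ℤ) i =
      (if i ∈ T then 2 else 0) - if i ∈ T' then 2 else 0 := fun i hi hq => by
    rw [e, if_pos hi, AddSubgroup.coe_sub, Pi.sub_apply, hv T hT i hi hq, hv T' hT' i hi hq]
  have h4 : c = ∅ := (eq_of_subset hd h hc h2).resolve_right fun c' => by
    have := h1 p
    rw [h3 p hp hpq, if_neg fun a => by simpa using hT a, if_neg fun a => by simpa using hT' a,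
      if_pos (c' ▸ hp)] at this
    omega
  have h5 : ∀ i ∈ (d.erase p).erase q, (i ∈ T ↔ i ∈ T') := fun i hi => by
    have := h1 i
    rw [h3 i (Finset.mem_of_mem_erase (Finset.mem_of_mem_erase hi)) (Finset.ne_of_mem_erase hi),
      h4, if_neg (Finset.notMem_empty i)] at this
    split_ifs at this <;> first | tauto | omega
  exact Finset.ext fun i => ⟨fun a => (h5 i (hT a)).1 a, fun a => (h5 i (hT' a)).2 a⟩

theorem mem_fix_conj {g e k : Co0} (h : k * g * k⁻¹ = e ∨ k * g * k⁻¹ = negOne * e)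
    {v : leechLattice} (hv : k⁻¹ • v ∈ fixSub g) : v ∈ fixSub e := by
  obtain ⟨y, hy⟩ := hv
  have h1 : v - (k * g * k⁻¹) • v = k • y + k • y := by
    rw [← smul_add, ← hy, smul_sub, smul_inv_smul, mul_smul, mul_smul]
  rcases h with h | h <;> rw [h] at h1
  · exact ⟨_, h1⟩
  · rw [mul_smul, negOne_smul] at h1
    refine ⟨k • y - e • v, ?_⟩
    calc v - e • v = v - -(e • v) - e • v - e • v := by abel
      _ = _ := by rw [h1]; abel

/-- An involution of `Co0` fixing a subgroup of small index modulo `2 Λ` is central. -/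
theorem pm_of_idx {g : Co0} (hg : g * g = 1) {W : AddSubgroup leechLattice} (hW : W ≤ fixSub g)
    (hi : Idx W 32) : g = 1 ∨ g = negOne := by
  have key : ∀ {d : Finset GolayPt} (hd : d ∈ GC), d.card = 8 ∨ d.card = 12 →
      ¬ (IsConj g (sgn d hd) ∨ IsConj g (negOne * sgn d hd)) := fun {d} hd h c => by
    obtain ⟨k, hk⟩ : ∃ k, k * g * k⁻¹ = sgn d hd ∨ k * g * k⁻¹ = negOne * sgn d hd :=
      c.elim (fun c => (isConj_iff.1 c).imp fun _ => Or.inl) fun c => (isConj_iff.1 c).imp fun _ => Or.inr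
    obtain ⟨S, v, h1, h2⟩ := exists_family hd h
    have : Finite (leechLattice ⧸ W) := Nat.finite_of_card_ne_zero hi.1
    have := Fintype.ofFinite (leechLattice ⧸ W)
    obtain ⟨T, hT, T', hT', h3, h4⟩ := Finset.exists_ne_map_eq_of_card_lt_of_maps_to
      (s := S.powerset) (t := Finset.univ) (f := fun T => ((k⁻¹ • v T : leechLattice) : leechLattice ⧸ W))
      (by
        rw [Finset.card_univ, ← Nat.card_eq_fintype_card, Finset.card_powerset]
        exact (hi.2.trans_lt (by norm_num)).trans_le (Nat.pow_le_pow_right two_pos h1))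
      fun _ _ => Finset.mem_univ _
    refine h3 (h2 T (Finset.mem_powerset.1 hT) T' (Finset.mem_powerset.1 hT') (mem_fix_conj hk (hW ?_)))
    rw [smul_sub]
    exact (QuotientAddGroup.eq_iff_sub_mem).1 h4
  rcases XSC.C1.sq_cases hg with e | e | e | e
  · exact Or.inl e
  · exact Or.inr e
  · exact (key _ (Or.inl XSC.C1.o0_card) (e.exists_octad XSC.C1.o0_GC XSC.C1.o0_card)).elim
  · exact (key _ (Or.inr XSC.C1.d0_card)
      (Or.inl (e.exists_dodecad XSC.C1.d0_GC XSC.C1.d0_card))).elim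

variable {G : Type} [Group G] [Finite G] {z : G} {Q : Subgroup G}
  {π : centralizer ({z} : Set G) →* Co1} {ψ : leechLattice → G} (h : If0 z Q π ψ)

/-- The vectors whose lifts commute with `x`. -/
def Cv {x : G} (hx : x * z = z * x) : AddSubgroup leechLattice where
  carrier := {v | Commute x (ψ v)}
  zero_mem' := by
    rcases (h.mon.triv 0).2 ⟨0, by simp⟩ with e | e <;> simp only [Set.mem_ofPred_eq, e]
    · exact Commute.one_right x
    · exact (Commute.one_right x).mul_right hx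
  add_mem' := fun {a b} ha hb => by
    rcases h.mon.add a b with e | e <;> simp only [Set.mem_ofPred_eq, e]
    · exact ha.mul_right hb
    · exact (ha.mul_right hb).mul_right hx
  neg_mem' := fun {a} ha => by
    rcases (h.eqv_neg (Eqv.refl z (ψ a))).symm h.mon.z_sq with e | e <;> simp only [Set.mem_ofPred_eq, e]
    · exact ha
    · exact ha.mul_right hx

theorem mem_Cv {x : G} {hx : x * z = z * x} {v : leechLattice} : v ∈ Cv h hx ↔ Commute x (ψ v) :=
  Iff.rfl

include h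

omit [Finite G] in
theorem commute_add {x : G} (hx : x * z = z * x) {v w : leechLattice}
    (e : Commute x (ψ v * ψ w)) : Commute x (ψ (v + w)) := by
  rcases h.mon.add v w with e' | e' <;> rw [e']
  exacts [e, e.mul_right hx]

/-- If the commutators with `x` lie in `{1, s}`, the centraliser of `x` has index at most two. -/
theorem two_of {x s : G} (hx : x * z = z * x) {A : AddSubgroup leechLattice} (ss : s * s = 1)
    (hs : ∀ v ∈ A, Commute s (ψ v))
    (hA : ∀ v ∈ A, Commute x (ψ v) ∨ x * ψ v * x⁻¹ = ψ v * s) : Two A (A ⊓ Cv h hx) := by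
  refine ⟨inf_le_left, fun v hv w hw h1 h2 => ⟨add_mem hv hw, commute_add h hx ?_⟩⟩
  have e1 := (hA v hv).resolve_left fun c => h1 ⟨hv, c⟩
  have e2 := (hA w hw).resolve_left fun c => h2 ⟨hw, c⟩
  refine comm_of_conj_eq ?_
  calc _ = x * ψ v * x⁻¹ * (x * ψ w * x⁻¹) := by group
    _ = ψ v * (s * ψ w) * s := by rw [e1, e2]; group
    _ = _ := by rw [(hs w hw).eq, mul_assoc, mul_assoc, ss, mul_one]

theorem two_Q {a : G} (ha : a ∈ Q) (A : AddSubgroup leechLattice) :
    Two A (A ⊓ Cv h (h.xs.z_comm a ha)) :=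
  two_of h _ h.mon.z_sq (fun v _ => (h.xs.z_comm _ (h.mon.mem v)).symm) fun v _ =>
    (h.xs.conj ha (h.mon.mem v)).imp comm_of_conj_eq id

omit [Finite G] in
theorem fix_iff {t : centralizer ({z} : Set G)} {g : Co0} (hg : (g : Co1) = π t) {v : leechLattice} :
    v ∈ fixSub g ↔ Eqv z (t * ψ v * (t : G)⁻¹) (ψ v) :=
  ⟨fun e => (h.mon.conj_eqv hg (Eqv.refl _ _)).trans h.mon.z_sq
      ((h.mon.eqv_iff.2 e).symm h.mon.z_sq),
    fun e => h.congr_of_eqv e (h.mon.conj_eqv hg (Eqv.refl _ _))⟩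

omit [Finite G] in
theorem mem_Q_iff {t : centralizer ({z} : Set G)} {g : Co0} (hg : (g : Co1) = π t) :
    (t : G) ∈ Q ↔ g = 1 ∨ g = negOne := by
  rw [← h.mon.ker, ← hg, QuotientGroup.eq_one_iff, Co.mem_center_Co0]

theorem sq_eq_one {t : centralizer ({z} : Set G)} {g : Co0} (hg : (g : Co1) = π t)
    (ht : (t : G) * t ∈ Q) {a : G} (ha : a ∈ cA ψ) (hQ : a ∈ Q) (hc : (t : G) * a = a * t) :
    g * g = 1 := by
  obtain ⟨r, e, h1⟩ := (h.mem_A_iff hQ).1 ha
  refine ((mem_Q_iff h (t := t * t) (g := g * g) (by simp [hg])).1 ht).resolve_right fun c => ?_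
  refine CF.ne_neg_of_short h1 ?_
  rw [← negOne_smul, ← c, mul_smul]
  rcases h.pm_of_comm hg e h1 hc with e' | e' <;> simp [e']

/-- An element of `C(z, a)` with square in `Q` acting trivially on a large part of `Q` lies in `Q`. -/
theorem mem_Q_of_idx {t : G} (hz : t * z = z * t) (ht : t * t ∈ Q) {a : G} (ha : a ∈ cA ψ)
    (hQ : a ∈ Q) (hc : t * a = a * t) {W : AddSubgroup leechLattice} {n : ℕ} (hi : Idx W n)
    (hn : n ≤ 32) (hW : ∀ v ∈ W, Eqv z (t * ψ v * t⁻¹) (ψ v)) : t ∈ Q := by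
  let u : centralizer ({z} : Set G) := ⟨t, mem_centralizer_singleton_iff.2 hz⟩
  obtain ⟨g, hg⟩ := QuotientGroup.mk_surjective (π u)
  exact (mem_Q_iff h hg).2 (pm_of_idx (sq_eq_one h hg ht ha hQ hc)
    (fun v hv => (fix_iff h hg).2 (hW v hv)) ⟨hi.1, hi.2.trans hn⟩)

/-- Jordan form argument: no element `x` of `C(z)` with `x ^ 4` in 2A centralises `C_Q(x ^ 2)`. -/
theorem jordan {x : G} (hz : x * z = z * x) (ha : x * x * (x * x) ∈ cA ψ) (hQ : x * x * (x * x) ∈ Q)
    (hc : ∀ q ∈ Q, Commute (x * x) q → Commute x q) : False := by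
  let u : centralizer ({z} : Set G) := ⟨x, mem_centralizer_singleton_iff.2 hz⟩
  obtain ⟨g, hg⟩ := QuotientGroup.mk_surjective (π u)
  have hg2 : ((g * g : Co0) : Co1) = π (u * u) := by simp [hg]
  have hz2 : x * x * z = z * (x * x) := comm_mul_left hz hz
  have h4 : g * g * (g * g) = 1 := sq_eq_one h hg2 hQ ha hQ (by simp only [u, coe_mul, mul_assoc])
  let N : Co0 → leechLattice →+ leechLattice := fun k =>
    AddMonoidHom.id _ - DistribSMul.toAddMonoidHom _ k
  have hN : ∀ k v, N k v = v - k • v := fun _ _ => rfl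
  have h1 : Two (fixSub (g * g)) (fixSub (g * g) ⊓ Cv h hz2) :=
    two_of h _ h.mon.z_sq (fun v _ => (h.xs.z_comm _ (h.mon.mem v)).symm) fun v hv =>
      ((fix_iff h hg2).1 hv).imp comm_of_conj_eq id
  have h2 : ∀ v ∈ Cv h hz2, v ∈ fixSub g := fun v hv =>
    (fix_iff h hg).2 (Or.inl (conj_eq_of_comm (hc _ (h.mon.mem v) hv)))
  have tw : ∀ (k : Co0) (A : AddSubgroup leechLattice), (∀ v ∈ A, N k v ∈ fixSub (g * g)) →
      Two A (A ⊓ (Cv h hz2).comap (N k)) := fun k A hA =>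
    ⟨inf_le_left, fun v hv w hw a b => ⟨add_mem hv hw, by
      have := (h1.2 _ (hA v hv) _ (hA w hw) (fun c => a ⟨hv, c.2⟩) fun c => b ⟨hw, c.2⟩).2
      rwa [← map_add] at this⟩⟩
  have i1 := (tw (g * g) ⊤ fun v _ => ⟨v - (g * g) • v, by
    rw [hN, smul_sub, ← mul_smul, h4, one_smul]; abel⟩).idx idx_top
  have i2 := (tw g _ fun v (hv : v ∈ ⊤ ⊓ (Cv h hz2).comap (N (g * g))) => by
    obtain ⟨y, hy⟩ := h2 _ hv.2
    refine ⟨y, ?_⟩
    rw [← hy, hN, hN, smul_sub, smul_sub, ← mul_smul, ← mul_smul, mul_assoc]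
    abel).idx i1
  have h3 : x * x ∈ Q := mem_Q_of_idx h hz2 hQ ha hQ (by simp only [mul_assoc]) i2 (by norm_num)
    fun v hv => (fix_iff h hg2).1 (by
      obtain ⟨y, hy⟩ := h2 _ hv.2
      refine ⟨y + (g • v - (g * g) • v), ?_⟩
      rw [hN, smul_sub, ← mul_smul] at hy
      calc _ = y + y + (g • v - (g * g) • v) + (g • v - (g * g) • v) := by rw [← hy]; abel
        _ = _ := by abel)
  rcases h.xs.sq h3 with e | e
  exacts [h.ne_one_A ha e, h.ne_z ha e]

end Cfsg.Agent.Std2B
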