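import Cfsg.Agent.Std2B.RedA
import Cfsg.Agent.MonU.BLoc
import Cfsg.Agent.Mon.CntE
import Cfsg.Agent.PLocal.Standard
import Cfsg.Agent.PLocal.SylowIn

/-! The double centraliser of an involution of `C(a)`, `a ∈ 2A`. -/

set_option autoImplicit false

namespace Cfsg.Agent.Std2B

open Cfsg Cfsg.Spor Cfsg.Agent.Spor Cfsg.Agent.Spor.Leech Subgroup Cfsg.Agent.TT Cfsg.Agent.LES
  Cfsg.Agent.Mon Cfsg.Agent.Mon.LL Cfsg.Agent.Mon.LC Cfsg.Agent.MonU Cfsg.Agent.PLocal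

variable {G : Type} [Group G] [Finite G] {z : G} {Q : Subgroup G}
  {π : centralizer ({z} : Set G) →* Co1} {ψ : leechLattice → G} (h : If0 z Q π ψ) {a : G}
include h

/-- An element of `Q` centralising `C_Q(a, b)` lies in `⟨z, a, b⟩`. -/
theorem mem_three {b x : G} (ha : a ∈ Q) (hb : b ∈ Q) (hx : x ∈ Q) (aa : a * a = 1) (bb : b * b = 1)
    (ab : a * b = b * a) (hc : ∀ q ∈ Q, Commute q a → Commute q b → Commute q x) :
    x ∈ zpowers a ⊔ zpowers b ∨ x * z ∈ zpowers a ⊔ zpowers b := by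
  have h0 : zpowers z ≤ Q := zpowers_le.2 h.xs.z_mem
  have h1 : zpowers a ⊔ zpowers b ≤ Q := sup_le (zpowers_le.2 ha) (zpowers_le.2 hb)
  have h2 : x ∈ zpowers a ⊔ zpowers b ⊔ zpowers z :=
    h.xs.mem_of_comm_centralizer (sup_le h1 h0) (mem_sup_right (mem_zpowers z)) hx fun q hq e =>
      hc q hq (e a (mem_sup_left (mem_sup_left (mem_zpowers a)))).symm
        (e b (mem_sup_left (mem_sup_right (mem_zpowers b)))).symm
  exact (TT.mem_sup_zpowers_of_comm h.mon.z_sq (fun y hy => h.xs.z_comm y (h1 hy))).1 h2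

variable (ha : a ∈ cA ψ)
include ha

theorem dc_std {y l : G} (hQ : a ∈ Q) (hy : y ∈ Q) (yy : y * y = 1) (ay : a * y = y * a)
    (la : Commute l a) (ll : l * l = 1 ∨ l * l = a)
    (hc : ∀ k, Commute k a → Commute k y → Commute k l) :
    l ∈ zpowers a ⊔ zpowers y ∨ l * z ∈ zpowers a ⊔ zpowers y := by
  have hz : l * z = z * l := (hc z (h.xs.z_comm a hQ).symm (h.xs.z_comm y hy).symm).symm
  refine mem_three h hQ hy (mem_Q_of_idx h hz (by rcases ll with e | e <;> simp [e, hQ]) ha hQ la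
    ((two_Q h hy _).idx ((two_Q h hQ _).idx idx_top)) (by norm_num) fun v hv => Or.inl
      (conj_eq_of_comm (hc _ (Commute.symm hv.1.2) (Commute.symm hv.2)).symm))
    (h.mul_self_A ha) yy ay fun q _ => hc q

theorem dc_R {y l w : G} (hw : w ∈ Rt z Q a y) (yy : y * y = 1) (ay : a * y = y * a)
    (la : Commute l a) (ll : l * l = 1 ∨ l * l = a)
    (hc : ∀ k, Commute k a → Commute k y → Commute k l) :
    l ∈ zpowers a ⊔ zpowers y ∨ l * w ∈ zpowers a ⊔ zpowers y := by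
  obtain ⟨g, rfl⟩ := isConj_iff.1 hw.1.mem_cB
  let φ := MulAut.conj g
  obtain ⟨a, rfl⟩ := φ.surjective a
  obtain ⟨y, rfl⟩ := φ.surjective y
  obtain ⟨l, rfl⟩ := φ.surjective l
  have e : ∀ {x}, InQ z Q (g * z * g⁻¹) (φ x) → x ∈ Q := fun hx => h.inQ_z.1 ((inQ_conj_iff g).1 hx)
  have m : ∀ {x}, x ∈ zpowers a ⊔ zpowers y → φ x ∈ zpowers (φ a) ⊔ zpowers (φ y) := fun hx => by
    have := mem_map_of_mem φ.toMonoidHom hx
    rwa [Subgroup.map_sup, MonoidHom.map_zpowers, MonoidHom.map_zpowers] at this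
  refine (dc_std h ((conj_mem_cA_iff g).1 ha) (e hw.1) (e hw.2) (φ.injective (by simpa using yy))
    (φ.injective (by simpa using ay)) (φ.injective (by simpa using la.eq))
    (ll.imp (fun e => φ.injective (by simpa using e)) fun e => φ.injective (by simpa using e))
    fun k h1 h2 => φ.injective (by simpa using (hc _ (h1.map φ) (h2.map φ)).eq)).imp m fun a => ?_
  exact map_mul φ l z ▸ m a

omit h ha [Finite G] in
theorem neg_o0 : sgn _ XSC.C1.o0_GC • e8 (pt 0) = -e8 (pt 0) ∧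
    sgn _ XSC.C1.o0_GC • (Br.v4 (pt 0) (pt 1) true + Br.v4 (pt 2) (pt 3) true) =
      -(Br.v4 (pt 0) (pt 1) true + Br.v4 (pt 2) (pt 3) true) := by
  constructor <;> refine Subtype.ext (funext fun i => ?_) <;> rw [sgn_smul] <;> revert i <;> decide

theorem two_R_D {y : G} (ay : a * y = y * a) (hy : Bs.tD z a y) :
    ∃ w ∈ Rt z Q a y, ∃ w' ∈ Rt z Q a y, w * w' ∉ zpowers a ⊔ zpowers y := by
  obtain ⟨g, rfl⟩ := isConj_iff.1 hy.1
  let φ := MulAut.conj g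
  obtain ⟨a, rfl⟩ := φ.surjective a
  have ha' : a ∈ cA ψ := (conj_mem_cA_iff g).1 ha
  have az : a * z = z * a := φ.injective (by rw [map_mul, map_mul]; exact ay)
  obtain ⟨aQ, u, u1, u2⟩ := Bs.isA8 h ha' az ((conj_mem_cB_iff g).1 (by simpa [φ] using hy.2))
  have key : ∀ r, nm r = 64 → u • r = -r → ∃ x, Eqv z x (ψ r) ∧ φ x ∈ Rt z Q (φ a) (φ z) :=
    fun r r1 r2 => by
      have k2 : ∀ x, Eqv z x (ψ r) → a * x ∈ cA ψ → φ x ∈ Rt z Q (φ a) (φ z) := fun x e c =>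
        have b := h.mem_B_of_eqv e r1
        ⟨(h.inQ_of_mul b ha' c).conj g, (h.inQ_symm b (h.inQ_z.2 (h.mon.mem_of_eqv e))).conj g⟩
      rcases CE.J0.mul_mem_or h u1 u2 ha' (Eqv.refl z _) r2 with c | c
      exacts [⟨_, Eqv.refl _ _, k2 _ (Eqv.refl _ _) c⟩, ⟨_, Or.inr rfl, k2 _ (Or.inr rfl) c⟩]
  obtain ⟨k, hk⟩ := u1.exists_octad XSC.C1.o0_GC XSC.C1.o0_card
  have ng : ∀ r : leechLattice, sgn _ XSC.C1.o0_GC • r = -r → u • k⁻¹ • r = -(k⁻¹ • r) := fun r e => by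
    rw [← smul_neg, ← e, ← hk, ← mul_smul, ← mul_smul]; group
  obtain ⟨x, e1, x1⟩ := key _ ((nm_smul _ _).trans (sqNorm_e8 _)) (ng _ neg_o0.1)
  obtain ⟨x', e2, x2⟩ := key _ ((nm_smul _ _).trans (by decide)) (ng _ neg_o0.2)
  refine ⟨_, x1, _, x2, fun c => ?_⟩
  have c' : x * x' ∈ zpowers a ⊔ zpowers z := by
    rw [← mem_map_iff_mem (f := φ.toMonoidHom) φ.injective, Subgroup.map_sup, MonoidHom.map_zpowers,
      MonoidHom.map_zpowers, map_mul]
    exact c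
  have e3 := h.eqv_mul' e1 (h.eqv_neg e2)
  have hQ := h.mon.mem_of_eqv e3
  have e4 : Eqv z (x * x') 1 := by
    rcases (mem_four_iff (h.mul_self_A ha') h.mon.z_sq az).1 c' with e | e | e | e
    · exact Or.inl e
    · exact absurd (e ▸ hQ) aQ
    · exact Or.inr (by simpa using e)
    · exact absurd ((Q.mul_mem_cancel_right h.xs.z_mem).1 (e ▸ hQ)) aQ
  obtain ⟨w, hw⟩ := (h.mon.triv _).1 ((e3.symm h.mon.z_sq).trans h.mon.z_sq e4)
  have e5 : nm (w + w) = 64 := by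
    rw [← hw, ← smul_neg, ← smul_add, nm_smul]; decide
  rcases nm_two w with e | e
  · rw [e] at e5; exact absurd e5 (by decide)
  · omega

theorem two_R_A {y : G} (hy : y ∈ Dt ψ a) :
    ∃ w ∈ Rt z Q a y, ∃ w' ∈ Rt z Q a y, w * w' ∉ zpowers a ⊔ zpowers y := by
  obtain ⟨w, hw⟩ := CE.J0.Rt_nonempty h ha hy
  obtain ⟨w', h1, h2, h3⟩ := Set.nonempty_of_ncard_ne_zero
    ((CE.J0.ncard_coll h ha hy hw).trans_ne (by norm_num))
  refine ⟨w, hw, w', h1, fun c => ?_⟩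
  have b := CE.J0.coll_mem h h1.1.mem_cB h2 h3
  rcases (mem_four_iff (h.mul_self_A ha) (h.mul_self_A hy.1) (CD.commD h ha hy)).1 c with e | e | e | e
  exacts [h.ne_one_B b e, h.disj ha (e ▸ b), h.disj hy.1 (e ▸ b), h.disj hy.2 (e ▸ b)]

theorem R_of_tB {y : G} (hy : Bs.tB z ψ a y) :
    ∃ w ∈ Rt z Q a y, w ∈ zpowers a ⊔ zpowers y := by
  rcases hy with ⟨h1, h2⟩ | ⟨h1, h2⟩
  · exact ⟨y, ⟨h.inQ_of_mul h1 ha h2, CF.inQ_self h h1⟩, mem_sup_right (mem_zpowers y)⟩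
  · have e : a * (a * y) = y := by rw [← mul_assoc, h.mul_self_A ha, one_mul]
    have h3 := h.inQ_of_mul h2 ha (e.symm ▸ h1)
    exact ⟨a * y, ⟨h3, by simpa only [e] using h.inQ_mul h3 (CF.inQ_self h h2)⟩,
      mul_mem (mem_sup_left (mem_zpowers a)) (mem_sup_right (mem_zpowers y))⟩

theorem exists_R {y : G} (ay : a * y = y * a) (yy : y * y = 1) (h1 : y ≠ 1) (h2 : y ≠ a) :
    ∃ w, w ∈ Rt z Q a y := by
  rcases Bs.cases h ha ay yy h1 h2 with e | e | e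
  · exact CE.J0.Rt_nonempty h ha e
  · exact (R_of_tB h ha e).imp fun _ e => e.1
  · exact Bs.inQ_D h ha ay e

/-- The double centraliser in `C(a)` of an involution `y` is `⟨a, y⟩`. -/
theorem dc {y l : G} (ay : a * y = y * a) (yy : y * y = 1) (h1 : y ≠ 1) (h2 : y ≠ a)
    (la : Commute l a) (ll : l * l = 1 ∨ l * l = a)
    (hc : ∀ k, Commute k a → Commute k y → Commute k l) : l ∈ zpowers a ⊔ zpowers y := by
  by_contra c
  have key : ∀ w ∈ Rt z Q a y, l * w ∈ zpowers a ⊔ zpowers y := fun w hw =>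
    (dc_R h ha hw yy ay la ll hc).resolve_left c
  have k2 : ¬ ∃ w ∈ Rt z Q a y, ∃ w' ∈ Rt z Q a y, w * w' ∉ zpowers a ⊔ zpowers y :=
    fun ⟨w, hw, w', hw', e⟩ => e (by
      simpa [mul_assoc, CF.B_inv h hw.1.mem_cB] using mul_mem (inv_mem (key w hw)) (key w' hw'))
  rcases Bs.cases h ha ay yy h1 h2 with e | e | e
  · exact k2 (two_R_A h ha e)
  · obtain ⟨w, hw, e⟩ := R_of_tB h ha e
    exact c ((mul_mem_cancel_right e).1 (key w hw))
  · exact k2 (two_R_D h ha ay e)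

/-- Every 2-subgroup of `C(a)` centralises a `C(a)`-conjugate of `z`. -/
theorem exists_conj_le_C (hQ : a ∈ Q) {T : Subgroup G} (hT : IsPGroup 2 T)
    (hTa : T ≤ centralizer {a}) : ∃ k, Commute k a ∧ ∀ x ∈ T, Commute (k * x * k⁻¹) z := by
  obtain ⟨S, hS, h1⟩ := exists_isSylowIn_ge (H := centralizer {a})
    (h.xs.isPGroup.to_le (inf_le_left (b := centralizer {a}))) inf_le_right
  obtain ⟨k, hk, h2⟩ := hS.exists_conj_le hT hTa
  exact ⟨k, mem_centralizer_singleton_iff.1 hk, fun x hx => mem_centralizer_singleton_iff.1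
    (h.le_C_of_two hQ hQ (h.cent_one ha hQ) hS.isPGroup
      (fun q hq e _ => h1 ⟨hq, mem_centralizer_singleton_iff.2 e⟩) (h2 ⟨x, hx, rfl⟩))⟩

/-- An involution `l` of `C(a)` and a 2-element `x` of `C(a, l)` can be moved into `Q` and `C(z)`. -/
theorem exists_conj_pair (hQ : a ∈ Q) {l x : G} (hl : l ∈ Q) (al : a * l = l * a) (ll : l * l = 1)
    (xa : Commute x a) (xl : Commute x l) (hx : x ^ 2 ^ 2 = 1) :
    ∃ g k, Commute g a ∧ Commute g l ∧ Commute k a ∧ k * l * k⁻¹ ∈ Q ∧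
      Commute (k * (g * x * g⁻¹) * k⁻¹) z := by
  obtain ⟨P, hP, h1⟩ := exists_isSylowIn_ge (H := centralizer {a} ⊓ centralizer {l})
    (h.xs.isPGroup.to_le (inf_le_left (b := centralizer {a} ⊓ centralizer {l}))) inf_le_right
  obtain ⟨g, hg, h2⟩ := hP.exists_conj_le (Amb.isPGroup_zpowers ⟨2, hx⟩) (zpowers_le.2
    ⟨mem_centralizer_singleton_iff.2 xa, mem_centralizer_singleton_iff.2 xl⟩)
  obtain ⟨k, hk, h3⟩ := exists_conj_le_C h ha hQ hP.isPGroup (hP.le.trans inf_le_left)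
  refine ⟨g, k, mem_centralizer_singleton_iff.1 hg.1, mem_centralizer_singleton_iff.1 hg.2, hk, ?_,
    h3 _ (h2 ⟨x, mem_zpowers x, rfl⟩)⟩
  have hB : k⁻¹ * z * k ∈ cB z := CF.B_conj' z_mem_cB k
  have h4 : ∀ q ∈ Q, Commute q a → Commute q l → Commute q (k⁻¹ * z * k) := fun q hq e1 e2 => by
    simpa [mul_assoc] using (h3 q (h1 ⟨hq, mem_centralizer_singleton_iff.2 e1,
      mem_centralizer_singleton_iff.2 e2⟩)).map (MulAut.conj k⁻¹)
  have h5 : k⁻¹ * z * k ∈ Q := h.mem_Q_of_cent hQ hl ⟨_, mem_centralizer_singleton_iff.2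
    (h4 z h.xs.z_mem (h.xs.z_comm a hQ).symm (h.xs.z_comm l hl).symm).symm⟩ (h.mul_self_B hB)
    fun q hq e1 e2 => (h4 q hq e1 e2).symm
  have iq : ∀ {x}, InQ z Q (k⁻¹ * z * k) x ↔ k * x * k⁻¹ ∈ Q := fun {x} => by
    simpa using h.inQ_iff (g := k⁻¹) (x := x)
  have qa : InQ z Q (k⁻¹ * z * k) a := iq.2 (by rwa [conj_eq_of_comm hk])
  have qz := h.inQ_symm hB (h.inQ_z.2 h5)
  have qs := CF.inQ_self h hB
  have aa := h.mul_self_A ha
  generalize k⁻¹ * z * k = w at *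
  have nA : ∀ {x}, x ∈ cA ψ → w ≠ x := fun hx e => h.disj hx (e ▸ hB)
  rcases mem_three h hQ hl h5 aa ll al h4 with e | e <;>
    rcases (mem_four_iff aa ll al).1 e with e | e | e | e
  · exact absurd e (h.ne_one_B hB)
  · exact absurd e (nA ha)
  · exact iq.1 (e ▸ qs)
  · exact iq.1 (by simpa only [e, ← mul_assoc, aa, one_mul] using h.inQ_mul qa qs)
  · have e' : w = z := by rw [eq_inv_of_mul_eq_one_left e, h.xs.z_inv]
    exact iq.1 (e' ▸ h.inQ_z.2 hl)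
  · exact absurd (by rw [← e, h.xs.mul_z_z]) (nA (h.mul_z_mem_A ha hQ))
  · exact iq.1 (e ▸ h.inQ_mul qs qz)
  · exact iq.1 (by simpa only [e, ← mul_assoc a a, aa, one_mul] using h.inQ_mul qa (h.inQ_mul qs qz))

end Cfsg.Agent.Std2B
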